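import Cfsg.Agent.Lib.KnownB.SUPres.Cases
import Cfsg.Agent.Lib.KnownB.SUPres.FourPres

/-!
# Presentations on six generators
-/

set_option autoImplicit false
set_option linter.unusedSectionVars false

open Matrix CfsgLib.Classical CfsgLib.SLPres CfsgLib.Presentations

namespace CfsgLib.SUPres

variable {F : Type*} [Field F] [Fintype F] {n q : ℕ}

/-- The special unitary groups in dimension at least four. -/
theorem su_pres_six (hF : Fintype.card F = q ^ 2) (hn : 4 ≤ n) :
    ∃ s : Fin 6 → Cfsg.SU n F q, HasPres 6 39 s ⊤ ∧ (n ≤ 5 → HasPres 6 35 s ⊤) := by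
  classical
  obtain ⟨σ, hσ, hc⟩ := exists_frob hF
  obtain ⟨t4, h4, h4two⟩ := four_pres hc hF hσ
  rcases (show n = 4 ∨ n = 5 ∨ 6 ≤ n by omega) with rfl | rfl | h6
  · exact ⟨t4, h4.mono (by norm_num), fun _ => h4.mono (by norm_num)⟩
  all_goals obtain ⟨a, ha⟩ := alt_pres_four
  · obtain ⟨tA, hA⟩ := alt_pres_five
    by_cases hq : q = 2
    · obtain ⟨s, hs⟩ := pres_five_two hσ hc hF hq hA (h4two hq) ha.1
      obtain ⟨s, hs⟩ := hasPres_succ hs
      obtain ⟨s, hs⟩ := hasPres_succ hs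
      exact ⟨s, hs.mono (by norm_num), fun _ => hs.mono (by norm_num)⟩
    · obtain ⟨s, hs⟩ := pres_five_gen hσ hc hF hq hA h4 ha.1
      obtain ⟨s, hs⟩ := hasPres_succ hs
      obtain ⟨s, hs⟩ := hasPres_succ hs
      obtain ⟨s, hs⟩ := hasPres_succ hs
      exact ⟨s, hs.mono (by norm_num), fun _ => hs.mono (by norm_num)⟩
  · obtain ⟨tA, hA⟩ := alt_pres_large (show 5 ≤ n by omega)
    by_cases hq : q = 2
    · obtain ⟨s, hs⟩ := pres_large_two hσ hc hF h6 hq hA (h4two hq) ha.1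
      obtain ⟨s, hs⟩ := hasPres_succ hs
      exact ⟨s, hs.mono (by norm_num), fun h => absurd h (by omega)⟩
    · obtain ⟨s, hs⟩ := pres_large_gen hσ hc hF h6 hq hA h4 ha.1
      obtain ⟨s, hs⟩ := hasPres_succ hs
      obtain ⟨s, hs⟩ := hasPres_succ hs
      exact ⟨s, hs.mono (by norm_num), fun h => absurd h (by omega)⟩

/-- The centre of the special unitary group is cyclic. -/
theorem exists_center_gen_su (hF : Fintype.card F = q ^ 2) (hn : 2 ≤ n) :
    ∃ z ∈ Subgroup.center (Cfsg.SU n F q), Subgroup.center (Cfsg.SU n F q) ≤ Subgroup.zpowers z := by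
  classical
  let i0 : Fin n := ⟨0, by omega⟩
  have hsc : ∀ z : Subgroup.center (Cfsg.SU n F q),
      (z.1.1.1 : Matrix (Fin n) (Fin n) F) = (z.1.1.1 i0 i0) • 1 := fun z => by
    obtain ⟨c, hc⟩ := scalar_of_commute hF hn (z.1.1.1 : Matrix (Fin n) (Fin n) F) fun g hg hg1 =>
      congrArg (fun B : Cfsg.SU n F q => (B.1.1 : Matrix (Fin n) (Fin n) F))
        (Subgroup.mem_center_iff.1 z.2 ⟨⟨(g : Matrix (Fin n) (Fin n) F), congrArg Units.val hg1⟩, hg⟩).symm
    rw [hc]
    simp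
  let f : Subgroup.center (Cfsg.SU n F q) →* F :=
    { toFun := fun z => z.1.1.1 i0 i0
      map_one' := by simp
      map_mul' := fun z w => by
        show ((z.1.1.1 : Matrix (Fin n) (Fin n) F) * w.1.1.1) i0 i0 = _
        conv_lhs => rw [hsc z]
        simp }
  have hf : Function.Injective f := fun z w e => Subtype.ext (Subtype.ext (Subtype.ext (by
    rw [hsc z, hsc w]
    exact congrArg (· • (1 : Matrix (Fin n) (Fin n) F)) e)))
  haveI : IsCyclic (Subgroup.center (Cfsg.SU n F q)) := isCyclic_of_subgroup_isDomain f hf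
  obtain ⟨z, hz⟩ := IsCyclic.exists_generator (α := Subgroup.center (Cfsg.SU n F q))
  refine ⟨z.1, z.2, fun x hx => ?_⟩
  obtain ⟨m, hm⟩ := Subgroup.mem_zpowers_iff.1 (hz ⟨x, hx⟩)
  exact ⟨m, congrArg Subtype.val hm⟩

/-- One more relation presents the projective group. -/
theorem psu_pres {g k : ℕ} (hF : Fintype.card F = q ^ 2) (hn : 2 ≤ n) {s : Fin g → Cfsg.SU n F q}
    (h : HasPres g k s ⊤) : ∃ t : Fin g → Cfsg.PSU n F q, HasPres g (k + 1) t ⊤ := by
  obtain ⟨z, hz, hle⟩ := exists_center_gen_su hF hn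
  exact ⟨_, quotient_pres h _ z hz hle⟩

end CfsgLib.SUPres
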