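import Cfsg.Agent.Lib.Classical.HermField
import Cfsg.Agent.Lib.KnownB.SLPres.Pair
import Cfsg.Agent.Lib.KnownB.SLPres.Target

/-!
# Relations for the four-dimensional special unitary group and their first consequences
-/

set_option autoImplicit false
set_option linter.unusedSectionVars false

open Matrix CfsgLib.Perm.Quad.SL2 CfsgLib.SL2Pres CfsgLib.SLPres CfsgLib.Classical

namespace CfsgLib.SUPres

variable {F : Type*} [Field F]

/-- The subfield fixed by the conjugation. -/
abbrev fixK (σ : F →+* F) : Subfield F := σ.eqLocusField (RingHom.id F)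

variable {σ : F →+* F}

theorem mem_fixK {x : F} : x ∈ fixK σ ↔ σ x = x := Iff.rfl

theorem fixK_spec (k : fixK σ) : σ (k : F) = k := k.2

variable (hc : IsConjugation σ)

/-- The norm to the fixed field. -/
def nK (c : F) : fixK σ := ⟨c * σ c, hc.norm_fixed c⟩

theorem nK_val (c : F) : (nK hc c : F) = c * σ c := rfl

theorem nK_ne {c : F} (h : c ≠ 0) : nK hc c ≠ 0 := fun e => by
  have := congrArg Subtype.val e
  simp [nK_val, h] at this

/-- The trace to the fixed field. -/
def tK (c : F) : fixK σ := ⟨c + σ c, show σ (c + σ c) = c + σ c by rw [map_add, hc.invol, add_comm]⟩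

theorem tK_val (c : F) : (tK hc c : F) = c + σ c := rfl

theorem tK_add (c d : F) : tK hc (c + d) = tK hc c + tK hc d := Subtype.ext (by simp [tK_val]; ring)

/-- The inverse conjugate transpose on matrices of size two and determinant one. -/
def thetaFun (σ : F →+* F) (A : SL F) : SL F :=
  ⟨!![σ (A.1 1 1), -σ (A.1 1 0); -σ (A.1 0 1), σ (A.1 0 0)], by
    rw [Matrix.det_fin_two]; simp [← map_mul, ← map_sub]
    rw [show A.1 1 1 * A.1 0 0 - A.1 1 0 * A.1 0 1 = 1 by linear_combination det2 A, map_one]⟩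

theorem thetaFun_val (A : SL F) :
    (thetaFun σ A).1 = !![σ (A.1 1 1), -σ (A.1 1 0); -σ (A.1 0 1), σ (A.1 0 0)] := rfl

/-- The inverse conjugate transpose as a homomorphism. -/
def theta (σ : F →+* F) : SL F →* SL F where
  toFun := thetaFun σ
  map_one' := by apply ext2 <;> simp [thetaFun_val]
  map_mul' A B := by apply ext2 <;> simp [mul_apply2, thetaFun_val] <;> ring

theorem theta_val (A : SL F) :
    (theta σ A).1 = !![σ (A.1 1 1), -σ (A.1 1 0); -σ (A.1 0 1), σ (A.1 0 0)] := rfl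

theorem theta_up (t : F) : theta σ (up t) = low (-σ t) := by
  apply ext2 <;> simp [theta_val, up_val, low_val]

theorem theta_low (t : F) : theta σ (low t) = up (-σ t) := by
  apply ext2 <;> simp [theta_val, up_val, low_val]

theorem theta_jSL : theta σ (jSL : SL F) = jSL := by
  apply ext2 <;> simp [theta_val, jSL_coe]

theorem dg_congr {K : Type*} [Field K] {a b : K} (ha : a ≠ 0) (hb : b ≠ 0) (e : a = b) : dg a ha = dg b hb := by
  subst e; rfl

theorem dSL_dg {K : Type*} [Field K] {a : K} (ha : a ≠ 0) : (dSL ha : SL K) = dg a ha := by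
  apply ext2 <;> simp [dSL_coe, dg_val]

theorem dg_mul_dg {K : Type*} [Field K] {a b : K} (ha : a ≠ 0) (hb : b ≠ 0) :
    dg a ha * dg b hb = dg (a * b) (mul_ne_zero ha hb) := by
  apply ext2 <;> simp [mul_apply2, dg_val, mul_comm]

theorem dg_inv {K : Type*} [Field K] {a : K} (ha : a ≠ 0) : (dg a ha)⁻¹ = dg a⁻¹ (inv_ne_zero ha) := by
  refine inv_eq_of_mul_eq_one_right ?_
  apply ext2 <;> simp [mul_apply2, dg_val, ha]

theorem dg_conj_up {K : Type*} [Field K] {a : K} (ha : a ≠ 0) (t : K) :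
    dg a ha * up t * (dg a ha)⁻¹ = up (a ^ 2 * t) := by
  rw [dg_inv]
  apply ext2 <;> simp [mul_apply2, dg_val, up_val, ha] <;> ring

theorem dg_conj_low {K : Type*} [Field K] {a : K} (ha : a ≠ 0) (t : K) :
    dg a ha * low t * (dg a ha)⁻¹ = low (a⁻¹ ^ 2 * t) := by
  rw [dg_inv]
  apply ext2 <;> simp [mul_apply2, dg_val, low_val, ha] <;> ring

theorem jSL_up {K : Type*} [Field K] (t : K) : (jSL : SL K) * up t * jSL⁻¹ = low (-t) := by
  rw [mul_inv_eq_iff_eq_mul]
  apply ext2 <;> simp [mul_apply2, jSL_coe, up_val, low_val]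

theorem jSL_low {K : Type*} [Field K] (t : K) : (jSL : SL K) * low t * jSL⁻¹ = up (-t) := by
  rw [mul_inv_eq_iff_eq_mul]
  apply ext2 <;> simp [mul_apply2, jSL_coe, up_val, low_val]

theorem jSL_sq {K : Type*} [Field K] : (jSL : SL K) * jSL = dg (-1) (neg_ne_zero.2 one_ne_zero) := by
  apply ext2 <;> simp [mul_apply2, jSL_coe, dg_val]

theorem scHom_dg {K : Type*} [Field K] {c a : K} (hc' : c ≠ 0) (ha : a ≠ 0) :
    scHom hc' (dg a ha) = dg a ha := by
  apply ext2 <;> simp [scHom_val, dg_val]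

theorem scHom_jSL {K : Type*} [Field K] {c : K} (hc' : c ≠ 0) :
    scHom hc' (jSL : SL K) = dg c hc' * jSL := by
  apply ext2 <;> simp [scHom_val, jSL_coe, dg_val, mul_apply2]

theorem scHom_up {K : Type*} [Field K] {c : K} (hc' : c ≠ 0) (t : K) : scHom hc' (up t) = up (c * t) := by
  apply ext2 <;> simp [scHom_val, up_val]

theorem scHom_low {K : Type*} [Field K] {c : K} (hc' : c ≠ 0) (t : K) : scHom hc' (low t) = low (c⁻¹ * t) := by
  apply ext2 <;> simp [scHom_val, low_val]

/-- A set closed under sums and differences holding the squares holds everything. -/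
theorem mem_of_squares {K : Type*} [Field K] [Finite K] (S : AddSubgroup K) (h : ∀ c : K, c ≠ 0 → c ^ 2 ∈ S)
    (x : K) : x ∈ S := by
  have hs : ∀ c : K, c ^ 2 ∈ S := fun c => by
    by_cases e : c = 0
    · simp [e]
    · exact h c e
  by_cases h2 : (2 : K) = 0
  · haveI : CharP K 2 := CharTwo.of_one_ne_zero_of_two_eq_zero one_ne_zero h2
    haveI : Fintype K := Fintype.ofFinite K
    obtain ⟨c, rfl⟩ := (FiniteField.isSquare_of_char_two (ringChar.eq K 2) x).exists_sq
    exact hs c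
  · have : x = ((x + 1) / 2) ^ 2 - ((x - 1) / 2) ^ 2 := by field_simp; ring
    rw [this]
    exact S.sub_mem (hs _) (hs _)

section
variable {P : Type*} [Group P] (φ : SL F →* P) (L : SL (fixK σ) →* P)

/-- The second rank one subgroup. -/
def Lb (z : SL (fixK σ)) : P := φ jSL * L z * (φ jSL)⁻¹

/-- The double exchange. -/
def Wd : P := L jSL * Lb φ L jSL

/-- The middle root subgroup. -/
def zz (δ : F) (t : F) : P := Lb φ L jSL * φ (up (-t / δ)) * (Lb φ L jSL)⁻¹

/-- The action of a lower root element on the first extreme root subgroup. -/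
def Base (δ : F) (s : F) (k : fixK σ) : Prop :=
  φ (low s) * L (up k) * (φ (low s))⁻¹ = L (up k) * zz φ L δ (δ * k * σ s) * Lb φ L (up (k * nK hc s))

/-- The relations. -/
structure Four (w δ : F) (hw : w ≠ 0) : Prop where
  gen : ∀ x : F, x ≠ 0 → ∃ e : ℕ, w ^ e = x
  hδ : δ ≠ 0
  hδσ : σ δ = -δ
  comm : ∀ x y, Commute (L x) (Lb φ L y)
  hL : ∀ x, φ (dg w hw) * L x * (φ (dg w hw))⁻¹ = L (scHom (nK_ne hc hw) x)
  stab : Commute (L (up 1)) (φ (up 1))
  torus : φ (dg (nK hc w : F) (Subtype.coe_injective.ne (nK_ne hc hw))) =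
    L (dg (nK hc w) (nK_ne hc hw)) * (Lb φ L (dg (nK hc w) (nK_ne hc hw)))⁻¹
  scale : L (dg (nK hc w) (nK_ne hc hw)) * φ (up 1) * (L (dg (nK hc w) (nK_ne hc hw)))⁻¹ = φ (up (nK hc w : F))
  twist : Wd φ L * φ (up 1) * (Wd φ L)⁻¹ = φ (low (-1))
  base : Base hc φ L δ 1 1
  extra : ∃ b x, b ≠ 0 ∧ Base hc φ L δ b 1 ∧ σ x ≠ x ∧ (IsSquare x ∨ IsSquare (x / b)) ∧
    (IsSquare (1 + x) ∨ IsSquare ((1 + x) / b))

variable {φ L}

theorem Lb_mul (x y : SL (fixK σ)) : Lb φ L (x * y) = Lb φ L x * Lb φ L y := by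
  simp only [Lb, map_mul]; group

theorem Lb_one : Lb φ L 1 = 1 := by simp [Lb]

theorem Lb_inv (x : SL (fixK σ)) : Lb φ L x⁻¹ = (Lb φ L x)⁻¹ := by
  simp only [Lb, map_inv]; group

theorem zz_add (δ s t : F) : zz φ L δ s * zz φ L δ t = zz φ L δ (s + t) := by
  simp only [zz]
  rw [show -(s + t) / δ = -s / δ + -t / δ by ring, ← up_add, map_mul]
  group

theorem zz_zero (δ : F) : zz φ L δ 0 = 1 := by
  simp [zz, CfsgLib.Perm.Quad.SL2.up_zero]

theorem zz_neg (δ t : F) : zz φ L δ (-t) = (zz φ L δ t)⁻¹ :=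
  eq_inv_of_mul_eq_one_left (by rw [zz_add, neg_add_cancel, zz_zero])

variable [Finite F] {w δ : F} {hw : w ≠ 0} (R : Four hc φ L w δ hw)
include R

theorem exists_w0 {a : fixK σ} (ha : a ≠ 0) : ∃ e : ℕ, nK hc w ^ e = a := by
  obtain ⟨c, hcn⟩ := hc.exists_norm_eq (fixK_spec a)
  have hc0 : c ≠ 0 := fun e => ha (Subtype.ext (by rw [← hcn, e]; simp))
  obtain ⟨e, rfl⟩ := R.gen c hc0
  exact ⟨e, Subtype.ext (by rw [← hcn]; simp [nK_val, mul_pow, map_pow])⟩

theorem conjL {c : F} (h : c ≠ 0) (x : SL (fixK σ)) :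
    φ (dg c h) * L x * (φ (dg c h))⁻¹ = L (scHom (nK_ne hc h) x) := by
  obtain ⟨e, rfl⟩ := R.gen c h
  induction e with
  | zero =>
    have e1 : dg ((w : F) ^ 0) h = 1 := by apply ext2 <;> simp [dg_val]
    have e2 : scHom (nK_ne hc h) x = x := by
      have : nK hc (1 : F) = 1 := Subtype.ext (by simp [nK_val])
      apply ext2 <;> simp [scHom_val, this]
    rw [e1, e2, map_one]; group
  | succ e ih =>
    have h' : w ^ e ≠ 0 := pow_ne_zero e hw
    have e1 : dg (w ^ (e + 1)) h = dg w hw * dg (w ^ e) h' := by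
      rw [dg_mul_dg]; exact dg_congr _ _ (pow_succ' w e)
    have e2 : scHom (nK_ne hc h) x = scHom (nK_ne hc hw) (scHom (nK_ne hc h') x) := by
      have : nK hc (w ^ (e + 1)) = nK hc w * nK hc (w ^ e) := Subtype.ext (by simp [nK_val, pow_succ]; ring)
      apply ext2 <;> simp [scHom_val, this] <;> ring
    rw [e1, e2, ← R.hL, ← ih h', map_mul]; group

theorem J2_comm (x : SL (fixK σ)) : φ jSL * (φ jSL * L x * (φ jSL)⁻¹) * (φ jSL)⁻¹ = L x := by
  have h1 : (-1 : F) ≠ 0 := neg_ne_zero.2 one_ne_zero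
  have e : scHom (nK_ne hc h1) x = x := by
    have : nK hc (-1 : F) = 1 := Subtype.ext (by simp [nK_val])
    apply ext2 <;> simp [scHom_val, this]
  conv_rhs => rw [← e, ← conjL hc R h1 x, ← jSL_sq, map_mul]
  group

theorem J_Lb (x : SL (fixK σ)) : φ jSL * Lb φ L x * (φ jSL)⁻¹ = L x := J2_comm hc R x

theorem conjLb {c : F} (h : c ≠ 0) (x : SL (fixK σ)) :
    φ (dg c h) * Lb φ L x * (φ (dg c h))⁻¹ = Lb φ L (scHom (inv_ne_zero (nK_ne hc h)) x) := by
  have e1 : dg c h * jSL = jSL * dg c⁻¹ (inv_ne_zero h) := by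
    apply ext2 <;> simp [mul_apply2, dg_val, jSL_coe]
  have e2 : scHom (inv_ne_zero (nK_ne hc h)) x = scHom (nK_ne hc (inv_ne_zero h)) x := by
    have : (nK hc c)⁻¹ = nK hc c⁻¹ := Subtype.ext (by simp [nK_val, mul_comm])
    apply ext2 <;> simp [scHom_val, this]
  calc φ (dg c h) * Lb φ L x * (φ (dg c h))⁻¹
      = φ (dg c h * jSL) * L x * (φ (dg c h * jSL))⁻¹ := by simp only [Lb, map_mul]; group
    _ = φ jSL * (φ (dg c⁻¹ (inv_ne_zero h)) * L x * (φ (dg c⁻¹ (inv_ne_zero h)))⁻¹) * (φ jSL)⁻¹ := by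
      rw [e1, map_mul]; group
    _ = _ := by rw [conjL hc R (inv_ne_zero h), ← e2]; rfl

theorem tor {a : fixK σ} (ha : a ≠ 0) :
    φ (dg (a : F) (Subtype.coe_injective.ne ha)) = L (dg a ha) * (Lb φ L (dg a ha))⁻¹ := by
  obtain ⟨e, rfl⟩ := exists_w0 hc R ha
  induction e with
  | zero =>
    have e1 : ∀ (K : Type _) [Field K] (x : K) (h : x ≠ 0), x = 1 → dg x h = 1 := fun K _ x h e => by
      subst e; apply ext2 <;> simp [dg_val]
    rw [e1 _ _ _ (by simp : ((nK hc w ^ 0 : fixK σ) : F) = 1), e1 _ _ _ (pow_zero (nK hc w)), map_one, map_one,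
      Lb_one]
    group
  | succ e ih =>
    have h0 := pow_ne_zero e (nK_ne hc hw)
    have e1 : dg ((nK hc w ^ (e + 1) : fixK σ) : F) (Subtype.coe_injective.ne ha) =
        dg ((nK hc w ^ e : fixK σ) : F) (Subtype.coe_injective.ne h0) *
          dg (nK hc w : F) (Subtype.coe_injective.ne (nK_ne hc hw)) := by
      rw [dg_mul_dg]; exact dg_congr _ _ (by simp [pow_succ])
    have e2 : dg (nK hc w ^ (e + 1)) ha = dg (nK hc w ^ e) h0 * dg (nK hc w) (nK_ne hc hw) := by
      rw [dg_mul_dg]; exact dg_congr _ _ (pow_succ _ e)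
    rw [e1, e2, map_mul, map_mul, ih h0, R.torus, Lb_mul]
    have hcm := (R.comm (dg (nK hc w) (nK_ne hc hw)) (dg (nK hc w ^ e) h0)).inv_right
    rw [mul_assoc, ← mul_assoc _ (L _), ← hcm.eq, _root_.mul_inv_rev]
    have hcm2 : Commute (Lb φ L (dg (nK hc w) (nK_ne hc hw))) (Lb φ L (dg (nK hc w ^ e) h0)) := by
      show _ * _ = _ * _
      rw [← Lb_mul, ← Lb_mul, dg_mul_dg, dg_mul_dg]
      exact congrArg _ (dg_congr _ _ (mul_comm _ _))
    rw [hcm2.inv_inv.eq]
    group

theorem scale_all_up {a : fixK σ} (ha : a ≠ 0) (A : SL F) :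
    L (dg a ha) * φ A * (L (dg a ha))⁻¹ = φ (scHom (Subtype.coe_injective.ne ha) A) := by
  have hN := nK_ne hc hw
  have base : ∀ A : SL F, L (dg (nK hc w) hN) * φ A * (L (dg (nK hc w) hN))⁻¹ =
      φ (scHom (Subtype.coe_injective.ne hN) A) := by
    let f : SL F →* P := (MulAut.conj (L (dg (nK hc w) hN))).toMonoidHom.comp φ
    have hj : f jSL = φ (scHom (Subtype.coe_injective.ne hN) jSL) := by
      show L (dg (nK hc w) hN) * φ jSL * (L (dg (nK hc w) hN))⁻¹ = _
      rw [scHom_jSL (Subtype.coe_injective.ne hN), map_mul, tor hc R hN, Lb]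
      group
    have hu : ∀ t, f (up t) = φ (scHom (Subtype.coe_injective.ne hN) (up t)) := by
      let S : AddSubgroup F :=
        { carrier := {t | f (up t) = φ (up ((nK hc w : F) * t))}
          zero_mem' := by simp [CfsgLib.Perm.Quad.SL2.up_zero]
          add_mem' := fun {a b} ha hb => by
            show f (up (a + b)) = _
            rw [← up_add, map_mul, ha, hb, ← map_mul, up_add, mul_add]
          neg_mem' := fun {a} ha => by
            show f (up (-a)) = _
            rw [← up_inv, map_inv, ha, ← map_inv, up_inv, mul_neg] }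
      intro t
      rw [scHom_up]
      refine mem_of_squares S (fun c hc0 => ?_) t
      have hcl : Commute (L (dg (nK hc w) hN)) (φ (dg c hc0)) := by
        have := conjL hc R hc0 (dg (nK hc w) hN)
        rw [scHom_dg, mul_inv_eq_iff_eq_mul] at this
        exact this.symm
      show L (dg (nK hc w) hN) * φ (up (c ^ 2)) * (L (dg (nK hc w) hN))⁻¹ = φ (up ((nK hc w : F) * c ^ 2))
      rw [← mul_one (c ^ 2), ← dg_conj_up hc0, mul_one, mul_comm, ← dg_conj_up hc0, map_mul, map_mul, map_mul,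
        map_mul, map_inv, ← R.scale]
      calc L (dg (nK hc w) hN) * (φ (dg c hc0) * φ (up 1) * (φ (dg c hc0))⁻¹) * (L (dg (nK hc w) hN))⁻¹
          = L (dg (nK hc w) hN) * φ (dg c hc0) * φ (up 1) * (L (dg (nK hc w) hN) * φ (dg c hc0))⁻¹ := by group
        _ = _ := by rw [hcl.eq]; group
    have : f = φ.comp (scHom (Subtype.coe_injective.ne hN)) := sl2_hom_ext hu fun t => by
      rw [show low t = jSL * up (-t) * jSL⁻¹ by rw [jSL_up, neg_neg], map_mul, map_mul, map_inv, hu, hj]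
      simp only [MonoidHom.comp_apply, map_mul, map_inv]
    exact fun A => DFunLike.congr_fun this A
  obtain ⟨e, rfl⟩ := exists_w0 hc R ha
  induction e generalizing A with
  | zero =>
    have e1 : dg (nK hc w ^ 0) ha = 1 := by apply ext2 <;> simp [dg_val]
    have e2 : scHom (Subtype.coe_injective.ne ha) A = A := by apply ext2 <;> simp [scHom_val]
    rw [e1, e2, map_one]; group
  | succ e ih =>
    have h0 := pow_ne_zero e hN
    have e2 : dg (nK hc w ^ (e + 1)) ha = dg (nK hc w) hN * dg (nK hc w ^ e) h0 := by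
      rw [dg_mul_dg]; exact dg_congr _ _ (pow_succ' _ e)
    have e3 : scHom (Subtype.coe_injective.ne ha) A =
        scHom (Subtype.coe_injective.ne hN) (scHom (Subtype.coe_injective.ne h0) A) := by
      apply ext2 <;> simp [scHom_val, pow_succ] <;> ring
    rw [e2, e3, ← base, ← ih A h0, map_mul]; group

theorem scaleLb {a : fixK σ} (ha : a ≠ 0) (A : SL F) :
    Lb φ L (dg a ha) * φ A * (Lb φ L (dg a ha))⁻¹ =
      φ (scHom (inv_ne_zero (Subtype.coe_injective.ne ha)) A) := by
  have e1 : Lb φ L (dg a ha) = (φ (dg (a : F) (Subtype.coe_injective.ne ha)))⁻¹ * L (dg a ha) := by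
    rw [tor hc R ha, _root_.mul_inv_rev, inv_inv]; group
  have e2 : (dg (a : F) (Subtype.coe_injective.ne ha))⁻¹ * scHom (Subtype.coe_injective.ne ha) A *
      dg (a : F) (Subtype.coe_injective.ne ha) = scHom (inv_ne_zero (Subtype.coe_injective.ne ha)) A := by
    have h0 : (a : F) ≠ 0 := Subtype.coe_injective.ne ha
    rw [dg_inv]
    apply ext2 <;> simp [mul_apply2, dg_val, scHom_val] <;> field_simp
  rw [e1, ← e2, map_mul, map_mul, map_inv, ← scale_all_up hc R ha]
  group

theorem J_W : φ jSL * Wd φ L * (φ jSL)⁻¹ = Wd φ L := by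
  have := J_Lb hc R jSL
  calc φ jSL * Wd φ L * (φ jSL)⁻¹
      = (φ jSL * L jSL * (φ jSL)⁻¹) * (φ jSL * Lb φ L jSL * (φ jSL)⁻¹) := by simp only [Wd]; group
    _ = _ := by rw [this]; exact (R.comm jSL jSL).symm.eq

theorem twist_all (A : SL F) : Wd φ L * φ A * (Wd φ L)⁻¹ = φ (theta σ A) := by
  let f : SL F →* P := (MulAut.conj (Wd φ L)).toMonoidHom.comp φ
  have hj : f jSL = φ (theta σ jSL) := by
    show Wd φ L * φ jSL * (Wd φ L)⁻¹ = _
    have e := J_W hc R
    rw [mul_inv_eq_iff_eq_mul] at e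
    rw [theta_jSL, ← e, mul_inv_cancel_right]
  have hu : ∀ t, f (up t) = φ (theta σ (up t)) := by
    let S : AddSubgroup F :=
      { carrier := {t | f (up t) = φ (low (-σ t))}
        zero_mem' := by simp [CfsgLib.Perm.Quad.SL2.up_zero, CfsgLib.Perm.Quad.SL2.low_zero]
        add_mem' := fun {a b} ha hb => by
          show f (up (a + b)) = _
          rw [← up_add, map_mul, ha, hb, ← map_mul, low_add, map_add, neg_add]
        neg_mem' := fun {a} ha => by
          show f (up (-a)) = _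
          rw [← up_inv, map_inv, ha, ← map_inv, low_inv, map_neg] }
    intro t
    rw [theta_up]
    refine mem_of_squares S (fun c hc0 => ?_) t
    have hN := nK_ne hc hc0
    have hW : φ (dg c hc0) * Wd φ L * (φ (dg c hc0))⁻¹ =
        φ (dg (nK hc c : F) (Subtype.coe_injective.ne hN)) * Wd φ L := by
      calc φ (dg c hc0) * Wd φ L * (φ (dg c hc0))⁻¹
          = (φ (dg c hc0) * L jSL * (φ (dg c hc0))⁻¹) * (φ (dg c hc0) * Lb φ L jSL * (φ (dg c hc0))⁻¹) := by
            simp only [Wd]; group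
        _ = _ := by
          rw [conjL hc R hc0, conjLb hc R hc0, scHom_jSL, scHom_jSL, map_mul, Lb_mul, tor hc R hN, Wd,
            show dg (nK hc c)⁻¹ (inv_ne_zero hN) = (dg (nK hc c) hN)⁻¹ from (dg_inv hN).symm, Lb_inv,
            mul_assoc, ← mul_assoc (L jSL), (R.comm jSL (dg (nK hc c) hN)).inv_right.eq]
          group
    have hσc : σ c ≠ 0 := (map_ne_zero σ).2 hc0
    have hWc : Wd φ L * φ (dg c hc0) * (Wd φ L)⁻¹ = φ (dg (σ c)⁻¹ (inv_ne_zero hσc)) := by
      have e0 : dg (σ c)⁻¹ (inv_ne_zero hσc) =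
          (dg (nK hc c : F) (Subtype.coe_injective.ne hN))⁻¹ * dg c hc0 := by
        rw [dg_inv, dg_mul_dg]
        exact dg_congr _ _ (by rw [nK_val]; field_simp)
      have e : φ (dg (σ c)⁻¹ (inv_ne_zero hσc)) =
          (φ (dg (nK hc c : F) (Subtype.coe_injective.ne hN)))⁻¹ * φ (dg c hc0) := by
        rw [e0, map_mul, map_inv φ]
      rw [e]
      rw [mul_inv_eq_iff_eq_mul] at hW
      rw [mul_inv_eq_iff_eq_mul, mul_assoc _ (φ (dg c hc0)), hW]
      group
    show Wd φ L * φ (up (c ^ 2)) * (Wd φ L)⁻¹ = φ (low (-σ (c ^ 2)))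
    calc Wd φ L * φ (up (c ^ 2)) * (Wd φ L)⁻¹
        = (Wd φ L * φ (dg c hc0) * (Wd φ L)⁻¹) * (Wd φ L * φ (up 1) * (Wd φ L)⁻¹) *
            (Wd φ L * φ (dg c hc0) * (Wd φ L)⁻¹)⁻¹ := by
          rw [show up (c ^ 2) = dg c hc0 * up 1 * (dg c hc0)⁻¹ by rw [dg_conj_up, mul_one], map_mul, map_mul,
            map_inv]
          group
      _ = _ := by
        rw [hWc, R.twist, ← map_mul, ← map_inv φ, ← map_mul, dg_conj_low]
        congr 2
        rw [inv_inv, map_pow]; ring
  exact DFunLike.congr_fun (show f = φ.comp (theta σ) from sl2_hom_ext hu fun t => by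
    rw [show low t = jSL * up (-t) * jSL⁻¹ by rw [jSL_up, neg_neg], map_mul, map_mul, map_inv, hu, hj]
    simp only [MonoidHom.comp_apply, map_mul, map_inv]) A

theorem stab_all (k : fixK σ) (t : F) : Commute (L (up k)) (φ (up t)) := by
  have scale2 : ∀ {k : fixK σ} {t : F}, Commute (L (up k)) (φ (up t)) → ∀ {c : F} (hc0 : c ≠ 0),
      Commute (L (up (nK hc c * k))) (φ (up (c ^ 2 * t))) := by
    intro k t h c hc0
    have := (Commute.conj_iff (φ (dg c hc0))).2 h
    rwa [conjL hc R hc0, scHom_up, ← map_inv, ← map_mul, ← map_mul, dg_conj_up] at this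
  have hk1 : ∀ k : fixK σ, Commute (L (up k)) (φ (up 1)) := by
    let S : AddSubgroup (fixK σ) :=
      { carrier := {k | Commute (L (up k)) (φ (up 1))}
        zero_mem' := by simp [CfsgLib.Perm.Quad.SL2.up_zero]
        add_mem' := fun {a b} ha hb => by
          show Commute _ _
          rw [← up_add, map_mul]; exact ha.mul_left hb
        neg_mem' := fun {a} ha => by
          show Commute _ _
          rw [← up_inv, map_inv]; exact ha.inv_left }
    refine mem_of_squares S fun c hc0 => ?_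
    have hcF : (c : F) ≠ 0 := Subtype.coe_injective.ne hc0
    have hci : (c⁻¹ : fixK σ) ≠ 0 := inv_ne_zero hc0
    have hciF : ((c⁻¹ : fixK σ) : F) ≠ 0 := Subtype.coe_injective.ne hci
    have h1 := scale2 R.stab hciF
    have ha : c ^ 2 ≠ 0 := pow_ne_zero 2 hc0
    have h2 := (Commute.conj_iff (L (dg _ ha))).2 h1
    rw [scale_all_up hc R, ← map_inv, ← map_mul, ← map_mul, dg_conj_up, scHom_up] at h2
    have en : nK hc ((c⁻¹ : fixK σ) : F) = c⁻¹ ^ 2 := Subtype.ext (by simp [nK_val, fixK_spec, sq])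
    have ek : (c ^ 2) ^ 2 * (nK hc ((c⁻¹ : fixK σ) : F) * 1) = c ^ 2 := by rw [en]; field_simp
    have et : ((c ^ 2 : fixK σ) : F) * (((c⁻¹ : fixK σ) : F) ^ 2 * 1) = 1 := by
      push_cast; field_simp
    rwa [ek, et] at h2
  let S : AddSubgroup F :=
    { carrier := {t | ∀ k, Commute (L (up k)) (φ (up t))}
      zero_mem' := fun k => by simp [CfsgLib.Perm.Quad.SL2.up_zero]
      add_mem' := fun {a b} ha hb k => by
        rw [← up_add, map_mul]; exact (ha k).mul_right (hb k)
      neg_mem' := fun {a} ha k => by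
        rw [← up_inv, map_inv]; exact (ha k).inv_right }
  refine mem_of_squares S (fun c hc0 k => ?_) t k
  have := scale2 (hk1 ((nK hc c)⁻¹ * k)) hc0
  rwa [mul_one, mul_inv_cancel_left₀ (nK_ne hc hc0)] at this

theorem stab_low (k : fixK σ) (t : F) : Commute (Lb φ L (up k)) (φ (low t)) := by
  have := (Commute.conj_iff (φ jSL)).2 (stab_all hc R k (-t))
  rwa [← map_inv, ← map_mul, ← map_mul, jSL_up, neg_neg, map_inv] at this

end

end CfsgLib.SUPres
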