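import Cfsg.Agent.Lib.KnownB.SUPres.GlueBase
import Cfsg.Agent.Lib.KnownB.SUPres.AltGen
import Cfsg.Agent.Lib.KnownB.SLPres.AltPres

/-!
# From presentations of an alternating group and the four-dimensional group to the n-dimensional one
-/

set_option autoImplicit false
set_option linter.unusedSectionVars false

open Matrix CfsgLib.Classical Equiv CfsgLib.SLPres CfsgLib.Presentations
open scoped commutatorElement

namespace CfsgLib.SUPres

variable {F : Type*} [Field F] [Finite F] {n q : ℕ} {σ : F →+* F}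

omit [Finite F] in
/-- Even permutations of the first four points are lifts. -/
theorem exists_lift4_eq (hn : 4 ≤ n) (a : alternatingGroup (Fin n))
    (ha : ∀ i : Fin n, 4 ≤ i.val → (a : Perm (Fin n)) i = i) : ∃ b, lift4 hn b = a := by
  obtain ⟨b, hb, hab⟩ := exists_block 0 4 (by omega) a fun i hi => ha i (by rw [mem_win] at hi; omega)
  refine ⟨⟨b, Perm.mem_alternatingGroup.2 hb⟩, Subtype.ext (Equiv.ext fun i => ?_)⟩
  by_cases hi : i.val < 4
  · obtain ⟨j, rfl⟩ : ∃ j, i = first4 hn j := ⟨⟨i.val, hi⟩, Fin.ext rfl⟩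
    rw [lift4_apply]
    have e := hab j
    rw [show (⟨0 + j.val, by omega⟩ : Fin n) = first4 hn j from Fin.ext (Nat.zero_add _),
      show (⟨0 + (b j).val, by omega⟩ : Fin n) = first4 hn (b j) from Fin.ext (Nat.zero_add _)] at e
    exact e.symm
  · rw [lift4_fix hn _ (by omega), ha i (by omega)]

variable (hσ : ∀ x, σ x = x ^ q) (hc : IsConjugation σ)
include hc

/-- Two presentations, the gluing relations, and one copy of the even permutations of four points. -/
theorem pres_glue (hn : 5 ≤ n) {k r : ℕ} {tA : Fin k → alternatingGroup (Fin n)} (hA : HasPres k r tA ⊤)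
    {g₀ K : ℕ} {u₀ : Fin g₀ → Cfsg.SU 4 F q} (h4 : HasPres g₀ K u₀ ⊤)
    {a : Fin 2 → alternatingGroup (Fin 4)} (ha : Subgroup.closure (Set.range a) = ⊤)
    {m : ℕ} (u : Fin m → Cfsg.SU 4 F q)
    (hu : Subgroup.closure (Set.range (Fin.append u fun i => permU hσ (a i))) = ⊤)
    (C : List (alternatingGroup (Fin n) × Cfsg.SU 4 F q × Cfsg.SU 4 F q))
    (hC : ∀ c ∈ C, permU hσ c.1 * ext4 hσ (show 4 ≤ n by omega) c.2.1 * (permU hσ c.1)⁻¹ =
      ext4 hσ (show 4 ≤ n by omega) c.2.2)
    (K₂ : List (Cfsg.SU 4 F q × alternatingGroup (Fin n) × Cfsg.SU 4 F q))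
    (hK₂ : ∀ c ∈ K₂, Commute (ext4 hσ (show 4 ≤ n by omega) c.1)
      (permU hσ c.2.1 * ext4 hσ (show 4 ≤ n by omega) c.2.2 * (permU hσ c.2.1)⁻¹))
    (hglue : ∀ {P : Type} [Group P] (D : Pre n q hσ P),
      (∀ c ∈ C, D.ψ c.1 * D.β (ext4Equiv hσ (show 4 ≤ n by omega) c.2.1) * (D.ψ c.1)⁻¹ =
        D.β (ext4Equiv hσ (show 4 ≤ n by omega) c.2.2)) →
      (∀ c ∈ K₂, Commute (D.β (ext4Equiv hσ (show 4 ≤ n by omega) c.1))
        (D.ψ c.2.1 * D.β (ext4Equiv hσ (show 4 ≤ n by omega) c.2.2) * (D.ψ c.2.1)⁻¹)) →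
      Nonempty { A : Amal n q hσ P // A.π = D.π }) :
    ∃ s : Fin (k + m) → Cfsg.SU n F q, HasPres (k + m) (r + (K + (m + 2)) + C.length + K₂.length) s ⊤ := by
  classical
  have hn4 : 4 ≤ n := by omega
  obtain ⟨hXcl, RX, hRX, πX, hπXi, hπX⟩ := hA
  obtain ⟨hLcl, RL, hRL, πL, hπLi, hπL⟩ := h4.of_generating _ hu
  let eX := MulEquiv.ofBijective πX ⟨hπXi, MonoidHom.range_eq_top.1 ((range_eq_closure πX hπX).trans hXcl)⟩
  let eL := MulEquiv.ofBijective πL ⟨hπLi, MonoidHom.range_eq_top.1 ((range_eq_closure πL hπL).trans hLcl)⟩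
  have heX : ∀ i, eX (PresentedGroup.of i) = tA i := hπX
  have heL : ∀ i, eL (PresentedGroup.of i) = Fin.append u (fun i => permU hσ (a i)) i := hπL
  let j := ext4 (q := q) hσ hn4
  let s : Fin (k + m) → Cfsg.SU n F q := Fin.append (fun i => permU hσ (tA i)) fun i => j (u i)
  let ι₀ : FreeGroup (Fin k) →* FreeGroup (Fin (k + m)) := FreeGroup.lift fun i => FreeGroup.of (Fin.castAdd m i)
  have hsurX : ∀ g, ∃ x : FreeGroup (Fin k), eX (PresentedGroup.mk _ x) = g := fun g => by
    obtain ⟨y, hy⟩ := eX.surjective g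
    obtain ⟨x, rfl⟩ := PresentedGroup.mk_surjective _ y
    exact ⟨x, hy⟩
  choose wX hwX using hsurX
  let W : alternatingGroup (Fin n) → FreeGroup (Fin (k + m)) := fun g => ι₀ (wX g)
  let sub : FreeGroup (Fin (m + 2)) →* FreeGroup (Fin (k + m)) :=
    FreeGroup.lift (Fin.append (fun i => FreeGroup.of (Fin.natAdd k i)) fun i => W (lift4 hn4 (a i)))
  have hsurL : ∀ z, ∃ x : FreeGroup (Fin (m + 2)), eL (PresentedGroup.mk _ x) = z := fun z => by
    obtain ⟨y, hy⟩ := eL.surjective z
    obtain ⟨x, rfl⟩ := PresentedGroup.mk_surjective _ y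
    exact ⟨x, hy⟩
  choose wL hwL using hsurL
  let L := FreeGroup.lift s
  have hLι : ∀ x, L (ι₀ x) = permU hσ (eX (PresentedGroup.mk _ x)) := by
    have : L.comp ι₀ = (permU hσ).comp (eX.toMonoidHom.comp (PresentedGroup.mk _)) :=
      FreeGroup.ext_hom _ _ fun i => by
        show L (ι₀ (FreeGroup.of i)) = permU hσ (eX (PresentedGroup.of i))
        rw [heX]
        simp [L, ι₀, s]
    exact fun x => DFunLike.congr_fun this x
  have hLW : ∀ g, L (W g) = permU hσ g := fun g => by simp only [W]; rw [hLι, hwX]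
  have hLsub : ∀ x, L (sub x) = j (eL (PresentedGroup.mk _ x)) := by
    have : L.comp sub = j.comp (eL.toMonoidHom.comp (PresentedGroup.mk _)) := FreeGroup.ext_hom _ _ fun i => by
      show L (sub (FreeGroup.of i)) = j (eL (PresentedGroup.of i))
      rw [heL]
      induction i using Fin.addCases with
      | left i => simp [L, sub, s]
      | right i =>
        simp only [sub, FreeGroup.lift_apply_of, Fin.append_right]
        rw [hLW]
        exact permU_lift4 hσ hn4 (a i)
    exact fun x => DFunLike.congr_fun this x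
  let cw : alternatingGroup (Fin n) × Cfsg.SU 4 F q × Cfsg.SU 4 F q → FreeGroup (Fin (k + m)) := fun c =>
    W c.1 * sub (wL c.2.1) * (W c.1)⁻¹ * (sub (wL c.2.2))⁻¹
  let kw : Cfsg.SU 4 F q × alternatingGroup (Fin n) × Cfsg.SU 4 F q → FreeGroup (Fin (k + m)) := fun c =>
    ⁅sub (wL c.1), W c.2.1 * sub (wL c.2.2) * (W c.2.1)⁻¹⁆
  let rels := RX.image ι₀ ∪ RL.image sub ∪ (C.map cw).toFinset ∪ (K₂.map kw).toFinset
  have hcard : rels.card ≤ r + (K + (m + 2)) + C.length + K₂.length := by
    have e1 := (Finset.card_image_le (s := RX) (f := ι₀)).trans hRX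
    have e2 := (Finset.card_image_le (s := RL) (f := sub)).trans hRL
    have e3 := (List.toFinset_card_le (C.map cw))
    have e4 := (List.toFinset_card_le (K₂.map kw))
    rw [List.length_map] at e3 e4
    refine (Finset.card_union_le _ _).trans (Nat.add_le_add ((Finset.card_union_le _ _).trans
      (Nat.add_le_add ((Finset.card_union_le _ _).trans (Nat.add_le_add e1 e2)) e3)) e4)
  have hhold : ∀ x ∈ (↑rels : Set (FreeGroup (Fin (k + m)))), L x = 1 := by
    intro x hx
    simp only [rels, Finset.coe_union, Set.mem_union, Finset.mem_coe, Finset.mem_image, List.mem_toFinset,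
      List.mem_map] at hx
    rcases hx with ((⟨y, hy, rfl⟩ | ⟨y, hy, rfl⟩) | ⟨c, hc, rfl⟩) | ⟨c, hc, rfl⟩
    · rw [hLι, PresentedGroup.one_of_mem (Finset.mem_coe.2 hy), map_one, map_one]
    · rw [hLsub, PresentedGroup.one_of_mem (Finset.mem_coe.2 hy), map_one, map_one]
    · simp only [cw, map_mul, map_inv, hLW, hLsub, hwL]
      exact mul_inv_eq_one.2 (hC c hc)
    · simp only [kw, map_commutatorElement, map_mul, map_inv, hLW, hLsub, hwL]
      exact commutatorElement_eq_one_iff_commute.2 (hK₂ c hc)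
  let π := PresentedGroup.toGroup (rels := (↑rels : Set (FreeGroup (Fin (k + m))))) (f := s) hhold
  have hπ : ∀ i, π (PresentedGroup.of i) = s i := fun i => PresentedGroup.toGroup.of hhold
  let p : FreeGroup (Fin (k + m)) →* PresentedGroup (↑rels : Set (FreeGroup (Fin (k + m)))) := PresentedGroup.mk _
  have hp1 : ∀ x ∈ rels, p x = 1 := fun x hx => PresentedGroup.one_of_mem (Finset.mem_coe.2 hx)
  have hπp : ∀ x, π (p x) = L x := fun x => rfl
  let φX := PresentedGroup.toGroup (rels := (↑RX : Set (FreeGroup (Fin k))))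
    (f := fun i => p (ι₀ (FreeGroup.of i))) fun x hx => by
      rw [show FreeGroup.lift (fun i => p (ι₀ (FreeGroup.of i))) = p.comp ι₀ from
        FreeGroup.ext_hom _ _ fun i => by simp]
      exact hp1 _ (Finset.mem_union_left _ (Finset.mem_union_left _ (Finset.mem_union_left _
        (Finset.mem_image_of_mem _ (Finset.mem_coe.1 hx)))))
  let φL := PresentedGroup.toGroup (rels := (↑RL : Set (FreeGroup (Fin (m + 2)))))
    (f := fun i => p (sub (FreeGroup.of i))) fun x hx => by
      rw [show FreeGroup.lift (fun i => p (sub (FreeGroup.of i))) = p.comp sub from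
        FreeGroup.ext_hom _ _ fun i => by simp]
      exact hp1 _ (Finset.mem_union_left _ (Finset.mem_union_left _ (Finset.mem_union_right _
        (Finset.mem_image_of_mem _ (Finset.mem_coe.1 hx)))))
  let μ : alternatingGroup (Fin n) →* _ := φX.comp eX.symm.toMonoidHom
  let ℓ : Cfsg.SU 4 F q →* _ := φL.comp eL.symm.toMonoidHom
  have hφX : ∀ x, φX (PresentedGroup.mk _ x) = p (ι₀ x) := by
    have : φX.comp (PresentedGroup.mk _) = p.comp ι₀ := FreeGroup.ext_hom _ _ fun i => by
      show φX (PresentedGroup.of i) = _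
      exact PresentedGroup.toGroup.of _
    exact fun x => DFunLike.congr_fun this x
  have hφL : ∀ x, φL (PresentedGroup.mk _ x) = p (sub x) := by
    have : φL.comp (PresentedGroup.mk _) = p.comp sub := FreeGroup.ext_hom _ _ fun i => by
      show φL (PresentedGroup.of i) = _
      exact PresentedGroup.toGroup.of _
    exact fun x => DFunLike.congr_fun this x
  have hμ : ∀ g, μ g = p (W g) := fun g => by
    show φX (eX.symm g) = p (ι₀ (wX g))
    rw [← hφX, ← congrArg eX.symm (hwX g), eX.symm_apply_apply]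
  have hℓ : ∀ z, ℓ z = p (sub (wL z)) := fun z => by
    show φL (eL.symm z) = p (sub (wL z))
    rw [← hφL, ← congrArg eL.symm (hwL z), eL.symm_apply_apply]
  have hℓgen : ∀ i, ℓ (Fin.append u (fun i => permU hσ (a i)) i) = p (sub (FreeGroup.of i)) := fun i => by
    show φL (eL.symm _) = _
    rw [← heL, eL.symm_apply_apply]
    exact PresentedGroup.toGroup.of _
  have hμgen : ∀ i, μ (tA i) = PresentedGroup.of (Fin.castAdd m i) := fun i => by
    show φX (eX.symm (tA i)) = _
    rw [← heX, eX.symm_apply_apply]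
    refine (PresentedGroup.toGroup.of _).trans ?_
    simp [ι₀]
    rfl
  have agreeA : μ.comp (lift4 hn4) = ℓ.comp (permU hσ) := by
    have : (μ.comp (lift4 hn4)).eqLocus (ℓ.comp (permU hσ)) = ⊤ := eq_top_iff.2 (ha.ge.trans
      ((Subgroup.closure_le _).2 (by
        rintro _ ⟨i, rfl⟩
        show μ (lift4 hn4 (a i)) = ℓ (permU hσ (a i))
        have := hℓgen (Fin.natAdd m i)
        rw [Fin.append_right] at this
        rw [this, hμ]
        simp [sub])))
    exact MonoidHom.ext fun x => (this.ge (Subgroup.mem_top x) :)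
  have hπμ : ∀ g, π (μ g) = permU hσ g := fun g => by rw [hμ, hπp, hLW]
  have hπℓ : ∀ z, π (ℓ z) = j z := fun z => by rw [hℓ, hπp, hLsub, hwL]
  clear_value μ ℓ
  let β : fixS F q (below n 4) →* PresentedGroup (↑rels : Set (FreeGroup (Fin (k + m)))) :=
    ℓ.comp (ext4Equiv hσ hn4).symm.toMonoidHom
  have hβe : ∀ z, β (ext4Equiv hσ hn4 z) = ℓ z := fun z => congrArg ℓ ((ext4Equiv hσ hn4).symm_apply_apply z)
  let D : Pre n q hσ (PresentedGroup (↑rels : Set (FreeGroup (Fin (k + m))))) :=
    { ψ := μ, β := β, π := π, hψ := hπμ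
      hβ := fun x => by
        obtain ⟨z, rfl⟩ := (ext4Equiv hσ hn4).surjective x
        rw [hβe, hπℓ]
        rfl
      bp := fun g hg => by
        obtain ⟨b, rfl⟩ := exists_lift4_eq hn4 g fun i hi => by
          have e := hg i (by rw [mem_below]; omega)
          rw [act_permU_ev] at e
          by_contra hne
          have := congrFun e i
          simp [ev, Pi.single_apply, Ne.symm hne] at this
        rw [show (⟨_, hg⟩ : fixS F q (below n 4)) = ext4Equiv hσ hn4 (permU hσ b) from
          Subtype.ext (permU_lift4 hσ hn4 b), hβe]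
        exact (DFunLike.congr_fun agreeA b).symm
      gen := by
        rw [eq_top_iff, ← PresentedGroup.closure_range_of, Subgroup.closure_le]
        rintro _ ⟨i, rfl⟩
        refine Subgroup.subset_closure ?_
        induction i using Fin.addCases with
        | left i => exact Or.inl ⟨tA i, hμgen i⟩
        | right i =>
          refine Or.inr ⟨ext4Equiv hσ hn4 (u i), ?_⟩
          rw [hβe]
          have := hℓgen (Fin.castAdd 2 i)
          rw [Fin.append_left] at this
          rw [this]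
          simp [sub]
          rfl }
  have h1 : ∀ c ∈ C, D.ψ c.1 * D.β (ext4Equiv hσ hn4 c.2.1) * (D.ψ c.1)⁻¹ = D.β (ext4Equiv hσ hn4 c.2.2) := by
    intro c hc
    show μ _ * β _ * (μ _)⁻¹ = β _
    rw [hβe, hβe, hμ, hℓ, hℓ]
    have e := hp1 (cw c) (Finset.mem_union_left _ (Finset.mem_union_right _
      (List.mem_toFinset.2 (List.mem_map.2 ⟨c, hc, rfl⟩))))
    simp only [cw, map_mul, map_inv, mul_inv_eq_one] at e
    exact e
  have h2 : ∀ c ∈ K₂, Commute (D.β (ext4Equiv hσ hn4 c.1))
      (D.ψ c.2.1 * D.β (ext4Equiv hσ hn4 c.2.2) * (D.ψ c.2.1)⁻¹) := by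
    intro c hc
    show Commute (β _) (μ _ * β _ * (μ _)⁻¹)
    rw [hβe, hβe, hμ, hℓ, hℓ]
    have e := hp1 (kw c) (Finset.mem_union_right _ (List.mem_toFinset.2 (List.mem_map.2 ⟨c, hc, rfl⟩)))
    simp only [kw, map_commutatorElement, map_mul, map_inv] at e
    exact commutatorElement_eq_one_iff_commute.1 e
  obtain ⟨A, hA⟩ := hglue D h1 h2
  have hbij : Function.Bijective π := by
    have := A.bijective hc hn
    rwa [hA] at this
  exact ⟨s, (range_eq_closure π hπ).symm.trans (MonoidHom.range_eq_top.2 hbij.surjective), rels, hcard, π,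
    hbij.injective, hπ⟩

end CfsgLib.SUPres
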