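import Cfsg.Agent.Lib.Classical.HermMatrix
import Cfsg.Agent.Lib.Classical.HermMatrixSimple
import Cfsg.Agent.Lib.Classical.HermGen

/-!
# Coordinate subgroups of the special unitary group
-/

set_option autoImplicit false
set_option linter.unusedSectionVars false

open Matrix CfsgLib.Classical

namespace CfsgLib.SUPres

variable {F : Type*} [Field F] {n q : ℕ}

/-- The action on column vectors. -/
abbrev act (g : Cfsg.SU n F q) (x : Fin n → F) : Fin n → F := (g.1 : Matrix (Fin n) (Fin n) F) *ᵥ x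

/-- A unit coordinate vector. -/
abbrev ev (i : Fin n) : Fin n → F := Pi.single i 1

theorem act_mul (g h : Cfsg.SU n F q) (x : Fin n → F) : act (g * h) x = act g (act h x) :=
  (Matrix.mulVec_mulVec x _ _).symm

theorem act_one (x : Fin n → F) : act (1 : Cfsg.SU n F q) x = x := Matrix.one_mulVec x

theorem act_inv_of {g : Cfsg.SU n F q} {x y : Fin n → F} (h : act g x = y) : act g⁻¹ y = x := by
  rw [← h, ← act_mul, inv_mul_cancel, act_one]

theorem act_add (g : Cfsg.SU n F q) (x y : Fin n → F) : act g (x + y) = act g x + act g y := Matrix.mulVec_add _ x y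

theorem act_smul (g : Cfsg.SU n F q) (c : F) (x : Fin n → F) : act g (c • x) = c • act g x := Matrix.mulVec_smul _ c x

theorem su_ext {g h : Cfsg.SU n F q} (e : ∀ i, act g (ev i) = act h (ev i)) : g = h := by
  refine Subtype.ext (Subtype.ext (Matrix.ext fun a b => ?_))
  have := congrFun (e b) a
  simpa [act, ev, Matrix.mulVec_single] using this

/-- The elements fixing every coordinate vector outside a set. -/
def fixS (F : Type*) [Field F] (q : ℕ) (S : Finset (Fin n)) : Subgroup (Cfsg.SU n F q) where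
  carrier := {g | ∀ i, i ∉ S → act g (ev i) = ev i}
  one_mem' i _ := act_one _
  mul_mem' {a b} ha hb i hi := by rw [act_mul, hb i hi, ha i hi]
  inv_mem' {a} ha i hi := act_inv_of (ha i hi)

theorem fixS_mono {S T : Finset (Fin n)} (h : S ⊆ T) : fixS F q S ≤ fixS F q T :=
  fun _ hg i hi => hg i fun hS => hi (h hS)

theorem mem_fixS_inter {S T : Finset (Fin n)} {g : Cfsg.SU n F q} (h1 : g ∈ fixS F q S) (h2 : g ∈ fixS F q T) :
    g ∈ fixS F q (S ∩ T) := fun i hi => by
  by_cases h : i ∈ S
  · exact h2 i fun h' => hi (Finset.mem_inter.2 ⟨h, h'⟩)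
  · exact h1 i h

theorem fixS_univ (g : Cfsg.SU n F q) : g ∈ fixS F q Finset.univ := fun i hi => absurd (Finset.mem_univ i) hi

/-- A vector supported on a set. -/
def Supp (x : Fin n → F) (S : Finset (Fin n)) : Prop := ∀ i, i ∉ S → x i = 0

theorem Supp.mono {x : Fin n → F} {S T : Finset (Fin n)} (h : Supp x S) (hST : S ⊆ T) : Supp x T :=
  fun i hi => h i fun hS => hi (hST hS)

theorem supp_ev {i : Fin n} {S : Finset (Fin n)} (h : i ∈ S) : Supp (ev i : Fin n → F) S :=
  fun j hj => (Pi.single_eq_of_ne (M := fun _ => F) (fun e : j = i => hj (e ▸ h)) 1)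

theorem Supp.add {x y : Fin n → F} {S : Finset (Fin n)} (hx : Supp x S) (hy : Supp y S) : Supp (x + y) S :=
  fun i hi => by rw [Pi.add_apply, hx i hi, hy i hi, add_zero]

theorem Supp.smul {x : Fin n → F} {S : Finset (Fin n)} (hx : Supp x S) (c : F) : Supp (c • x) S :=
  fun i hi => by rw [Pi.smul_apply, hx i hi, smul_zero]

variable {σ : F →+* F} (hσ : ∀ x, σ x = x ^ q)
include hσ

theorem su_form (g : Cfsg.SU n F q) (x y : Fin n → F) :
    stdHerm σ n (act g x) (act g y) = stdHerm σ n x y :=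
  (mem_GU_iff hσ (g := SpecialLinearGroup.toGL g.1)).1 g.2 x y

theorem fixS_coord {S : Finset (Fin n)} {g : Cfsg.SU n F q} (hg : g ∈ fixS F q S) (x : Fin n → F) {i : Fin n}
    (hi : i ∉ S) : act g x i = x i := by
  have := su_form hσ g (ev i) x
  rwa [hg i hi, stdHerm_single, stdHerm_single] at this

theorem fixS_supp {S T : Finset (Fin n)} {g : Cfsg.SU n F q} (hg : g ∈ fixS F q S) (hST : S ⊆ T) {x : Fin n → F}
    (hx : Supp x T) : Supp (act g x) T := fun i hi => by
  rw [fixS_coord hσ hg x fun h => hi (hST h)]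
  exact hx i hi

theorem fixS_fix {S : Finset (Fin n)} {g : Cfsg.SU n F q} (hg : g ∈ fixS F q S) {x : Fin n → F}
    (hx : ∀ i ∈ S, x i = 0) : act g x = x := by
  classical
  have e : x = ∑ i, x i • ev i := pi_eq_sum_univ' x
  conv_lhs => rw [e]
  conv_rhs => rw [e]
  simp only [act, Matrix.mulVec_sum, Matrix.mulVec_smul]
  refine Finset.sum_congr rfl fun i _ => ?_
  by_cases hi : i ∈ S
  · rw [hx i hi, zero_smul, zero_smul]
  · exact congrArg _ (hg i hi)

/-- Disjoint coordinate subgroups commute in the matrices. -/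
theorem fixS_commute {S T : Finset (Fin n)} (h : Disjoint S T) {g k : Cfsg.SU n F q} (hg : g ∈ fixS F q S)
    (hk : k ∈ fixS F q T) : Commute g k := by
  refine su_ext fun i => ?_
  rw [act_mul, act_mul]
  by_cases hi : i ∈ S
  · have hiT : i ∉ T := Finset.disjoint_left.1 h hi
    rw [hk i hiT, fixS_fix hσ hk fun j hj => fixS_supp hσ hg subset_rfl (supp_ev hi) j
      (Finset.disjoint_right.1 h hj)]
  · rw [hg i hi]
    by_cases hiT : i ∈ T
    · rw [fixS_fix hσ hg fun j hj => fixS_supp hσ hk subset_rfl (supp_ev hiT) j (Finset.disjoint_left.1 h hj)]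
    · rw [hk i hiT, hg i hi]

theorem su_of_isometry (g : isomGroup (stdHerm σ n)) (hg : idet (stdHerm σ n) g = 1) :
    ∃ A : Cfsg.SU n F q, ∀ x, act A x = g.1 x := by
  obtain ⟨A, hA⟩ := (suEquiv hσ).surjective ⟨g, MonoidHom.mem_ker.2 hg⟩
  refine ⟨A, fun x => ?_⟩
  show (A.1 : Matrix (Fin n) (Fin n) F) *ᵥ x = g.1 x
  rw [← suEquiv_apply hσ, hA]

variable [Finite F] (hc : IsConjugation σ)
include hc

/-- An isometry sending a family to another, made special by a coordinate where the target vanishes. -/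
theorem exists_su_family {ι : Type*} {a b : ι → Fin n → F} (ha : LinearIndependent F a) (hb : LinearIndependent F b)
    (hab : ∀ i j, stdHerm σ n (a i) (a j) = stdHerm σ n (b i) (b j)) {l : Fin n} (hl : ∀ i, b i l = 0) :
    ∃ A : Cfsg.SU n F q, ∀ i, act A (a i) = b i := by
  classical
  have hB := stdHerm_isHermitian hc n
  obtain ⟨g, hg⟩ := hB.witt_family (stdHerm_sepRight (σ := σ) n) ha hb hab
  set c := idet (stdHerm σ n) g
  have hcn : c * σ c = 1 := hB.idet_norm (stdHerm_sepRight (σ := σ) n) g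
  have hc0 : c ≠ 0 := fun e => by simp [e] at hcn
  have hσc : σ c = c⁻¹ := eq_inv_of_mul_eq_one_right hcn
  let d : Fin n → Fˣ := fun j => if j = l then (Units.mk0 c hc0)⁻¹ else 1
  have hd : ∀ j, d j ∈ (normHom σ).ker := fun j => by
    simp only [d]
    split_ifs
    · refine MonoidHom.mem_ker.2 (Units.ext ?_)
      rw [CfsgLib.Classical.normHom_apply]
      simp [hσc, hc0]
    · exact one_mem _
  let D := guEquiv hσ ⟨diagGL d, diagGL_mem_GU hσ d hd⟩
  have hD : idet (stdHerm σ n) D = c⁻¹ := by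
    rw [idet_guEquiv]
    simp [diagGL, det_diagonal, d, Finset.prod_ite_eq']
    rw [Finset.prod_congr rfl fun j _ => show ((if j = l then (Units.mk0 c hc0)⁻¹ else 1 : Fˣ) : F) =
      if j = l then c⁻¹ else 1 by split_ifs <;> simp, Finset.prod_ite_eq']
    simp
  obtain ⟨A, hA⟩ := su_of_isometry hσ (D * g) (by rw [map_mul, hD, inv_mul_cancel₀ hc0])
  refine ⟨A, fun i => ?_⟩
  rw [hA]
  show D.1 (g.1 (a i)) = b i
  rw [hg, guEquiv_apply]
  funext j
  simp only [diagGL, mulVec_diagonal, d]
  split_ifs with h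
  · rw [h, hl, mul_zero]
  · simp

/-- Transitivity inside a coordinate subgroup. -/
theorem fixS_trans {S : Finset (Fin n)} {v v' : Fin n → F} (hv : Supp v S) (hv' : Supp v' S) (h0 : v ≠ 0)
    (h0' : v' ≠ 0) (hn : stdHerm σ n v v = stdHerm σ n v' v') {l : Fin n} (hlS : l ∈ S) (hl : v' l = 0) :
    ∃ g ∈ fixS F q S, act g v = v' := by
  classical
  let fam : (Fin n → F) → Option {i : Fin n // i ∉ S} → Fin n → F :=
    fun w o => o.elim w fun i => ev i.1
  have hli : ∀ w, Supp w S → w ≠ 0 → LinearIndependent F (fam w) := by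
    intro w hw hw0
    have : LinearIndependent F (fun i : {i : Fin n // i ∉ S} => (ev i.1 : Fin n → F)) :=
      (Pi.linearIndependent_single_one (Fin n) F).comp (fun i : {i : Fin n // i ∉ S} => i.1) Subtype.val_injective
    refine linearIndependent_option.2 ⟨this, ?_⟩
    intro hmem
    apply hw0
    funext j
    by_cases hj : j ∈ S
    · have : Submodule.span F (Set.range fun i : {i : Fin n // i ∉ S} => (ev i.1 : Fin n → F)) ≤
            LinearMap.ker (LinearMap.proj j : (Fin n → F) →ₗ[F] F) := Submodule.span_le.2 (by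
          rintro _ ⟨i, rfl⟩
          exact Pi.single_eq_of_ne (M := fun _ => F) (fun e : j = i.1 => i.2 (e ▸ hj)) 1)
      exact this hmem
    · exact hw j hj
  have hform : ∀ o o', stdHerm σ n (fam v o) (fam v o') = stdHerm σ n (fam v' o) (fam v' o') := by
    rintro (_ | i) (_ | j)
    · exact hn
    · show stdHerm σ n v (ev j.1) = stdHerm σ n v' (ev j.1)
      rw [← (stdHerm_isHermitian hc n).symm, ← (stdHerm_isHermitian hc n).symm (ev j.1) v', stdHerm_single,
        stdHerm_single, hv _ j.2, hv' _ j.2]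
    · show stdHerm σ n (ev i.1) v = stdHerm σ n (ev i.1) v'
      rw [stdHerm_single, stdHerm_single, hv _ i.2, hv' _ i.2]
    · rfl
  have hfl : ∀ o, fam v' o l = 0 := by
    rintro (_ | i)
    · exact hl
    · exact Pi.single_eq_of_ne (M := fun _ => F) (fun e : l = i.1 => i.2 (e ▸ hlS)) 1
  obtain ⟨A, hA⟩ := exists_su_family hσ hc (hli v hv h0) (hli v' hv' h0') hform hfl
  exact ⟨A, fun i hi => hA (some ⟨i, hi⟩), hA none⟩

end CfsgLib.SUPres
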