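import Cfsg.Agent.Lib.KnownB.SUPres.Assemble
import Cfsg.Agent.Lib.KnownB.SUPres.Gens

/-!
# Short presentations in the four cases
-/

set_option autoImplicit false
set_option linter.unusedSectionVars false

open Matrix CfsgLib.Classical Equiv CfsgLib.SLPres CfsgLib.Presentations

namespace CfsgLib.SUPres

variable {F : Type*} [Field F] [Fintype F] {n q : ℕ} {σ : F →+* F}

theorem mem_zpowers_prod {G : Type*} [Group G] {s c : G} {M p : ℕ} (h : Commute s c) (hM : M.Coprime p)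
    (hs : s ^ M = 1) (hc : c ^ p = 1) :
    s ∈ Subgroup.zpowers (s * c) ∧ c ∈ Subgroup.zpowers (s * c) := by
  have hs' : s ∈ Subgroup.zpowers (s * c) := by
    have e : (s * c) ^ p = s ^ p := by rw [h.mul_pow, hc, mul_one]
    have h1 : s ∈ Subgroup.zpowers (s ^ p) :=
      mem_zpowers_pow_iff.2 (Nat.Coprime.coprime_dvd_right (orderOf_dvd_of_pow_eq_one hs) hM.symm)
    refine Subgroup.zpowers_le.2 ?_ h1
    rw [← e]
    exact pow_mem (Subgroup.mem_zpowers _) p
  exact ⟨hs', by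
    have := mul_mem (inv_mem hs') (Subgroup.mem_zpowers (s * c))
    rwa [inv_mul_cancel_left] at this⟩

theorem gPerm_ge (hn : 6 ≤ n) {i : Fin n} (hi : 4 ≤ i.val) : 4 ≤ ((gPerm hn : Perm (Fin n)) i).val := by
  by_contra hlt
  obtain ⟨h4, -, -, -⟩ := cycStart_spec hn
  set j := swap (⟨0, by omega⟩ : Fin n) ⟨1, by omega⟩ ((gPerm hn : Perm (Fin n)) i) with hj
  have hj4 : j.val < 4 := by rw [hj, swap_apply_def]; split_ifs <;> (try simp only) <;> omega
  have e : (gPerm hn : Perm (Fin n)) j = (gPerm hn : Perm (Fin n)) i := by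
    rw [gPerm_low hn (by omega : j.val < cycStart n), hj, swap_apply_self]
  have := congrArg Fin.val ((gPerm hn : Perm (Fin n)).injective e)
  omega

theorem gPerm_small (hn : 6 ≤ n) {i : Fin n} {k : ℕ} (hk : 2 ≤ k) (hk4 : k ≤ 4) (hi : i.val < k) :
    ((gPerm hn : Perm (Fin n)) i).val < k := by
  obtain ⟨h4, -, -, -⟩ := cycStart_spec hn
  rw [gPerm_low hn (by omega : i.val < cycStart n), swap_apply_def]
  split_ifs <;> (try simp only) <;> omega

variable (hσ : ∀ x, σ x = x ^ q) (hc : IsConjugation σ) (hF : Fintype.card F = q ^ 2)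
include hσ hc hF

/-- The generators when the field is not the field of four elements. -/
theorem gen_data (hq : q ≠ 2) {a : Fin 2 → alternatingGroup (Fin 4)} (ha : Subgroup.closure (Set.range a) = ⊤) :
    ∃ (s b x : Cfsg.SU 4 F q) (T : alternatingGroup (Fin 4)),
      (T : Perm (Fin 4)) = swap 0 2 * swap 1 3 ∧
      s ∈ fixS F q (below 4 2) ∧ b ∈ fixS F q (below 4 2) ∧ fixS F q (below 4 2) ≤ Subgroup.closure {s, b} ∧
      s ∈ Subgroup.zpowers x ∧ permU hσ T * b * (permU hσ T)⁻¹ ∈ Subgroup.zpowers x ∧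
      Subgroup.closure (Set.range (Fin.append ![x] fun i => permU hσ (a i))) = ⊤ := by
  obtain ⟨s, b, M, p, hM, hs, hb, hsm, hbm, hgen⟩ := pair_data hσ hc hF
  let T : alternatingGroup (Fin 4) := ⟨swap 0 2 * swap 1 3, Perm.mem_alternatingGroup.2 (by decide)⟩
  set c := permU hσ T * b * (permU hσ T)⁻¹ with hcdef
  have hcm : c ∈ fixS F q ({2, 3} : Finset (Fin 4)) :=
    permU_conj_mem hσ T (S := below 4 2) (by decide) hbm
  have hcomm : Commute s c := fixS_commute hσ (by decide) hsm hcm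
  have hcp : c ^ p = 1 := by rw [hcdef, conj_pow, hb, mul_one, mul_inv_cancel]
  obtain ⟨h1, h2⟩ := mem_zpowers_prod hcomm hM hs hcp
  refine ⟨s, b, s * c, T, rfl, hsm, hbm, hgen, h1, h2, ?_⟩
  set H := Subgroup.closure (Set.range (Fin.append ![s * c] fun i => permU hσ (a i)))
  have hx : s * c ∈ H := Subgroup.subset_closure ⟨Fin.castAdd 2 0, Fin.append_left _ _ 0⟩
  have hperm : ∀ d, permU hσ d ∈ H := fun d => by
    have hle : Subgroup.closure (Set.range a) ≤ H.comap (permU hσ) := (Subgroup.closure_le _).2 (by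
      rintro _ ⟨i, rfl⟩
      exact Subgroup.subset_closure ⟨Fin.natAdd 1 i, Fin.append_right _ _ i⟩)
    exact hle (ha ▸ Subgroup.mem_top d)
  have hbH : b ∈ H := by
    have := mul_mem (mul_mem (inv_mem (hperm T)) (Subgroup.zpowers_le.2 hx h2)) (hperm T)
    simpa [hcdef, mul_assoc] using this
  refine four_gen_two hσ hc hF hq hperm (hgen.trans ((Subgroup.closure_le _).2 ?_))
  rintro _ (rfl | rfl)
  exacts [Subgroup.zpowers_le.2 hx h1, hbH]

/-- The generators over the field of four elements. -/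
theorem gen_data_two (hq : q = 2) {a : Fin 2 → alternatingGroup (Fin 4)}
    (ha : Subgroup.closure (Set.range a) = ⊤) :
    ∃ f f2 : Cfsg.SU 4 F q, f ∈ fixS F q (below 4 3) ∧ f2 ∈ fixS F q (below 4 3) ∧
      fixS F q (below 4 3) ≤ Subgroup.closure {f, f2} ∧
      Subgroup.closure (Set.range (Fin.append ![f, f2] fun i => permU hσ (a i))) = ⊤ := by
  obtain ⟨f, f2, hf, hf2, hgen⟩ := two_pair hσ hF hq
  rw [show ({0, 1, 2} : Finset (Fin 4)) = below 4 3 by decide] at hf hf2 hgen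
  refine ⟨f, f2, hf, hf2, hgen, ?_⟩
  set H := Subgroup.closure (Set.range (Fin.append ![f, f2] fun i => permU hσ (a i)))
  have hperm : ∀ d, permU hσ d ∈ H := fun d => by
    have hle : Subgroup.closure (Set.range a) ≤ H.comap (permU hσ) := (Subgroup.closure_le _).2 (by
      rintro _ ⟨i, rfl⟩
      exact Subgroup.subset_closure ⟨Fin.natAdd 2 i, Fin.append_right _ _ i⟩)
    exact hle (ha ▸ Subgroup.mem_top d)
  refine four_gen_three hσ hc hperm (hgen.trans ((Subgroup.closure_le _).2 ?_))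
  rintro _ (rfl | rfl)
  · exact Subgroup.subset_closure ⟨Fin.castAdd 2 0, Fin.append_left _ _ 0⟩
  · exact Subgroup.subset_closure ⟨Fin.castAdd 2 1, Fin.append_left _ _ 1⟩

/-- The case of at least six dimensions, not over the field of four elements. -/
theorem pres_large_gen (hn : 6 ≤ n) (hq : q ≠ 2) {k r : ℕ} {tA : Fin k → alternatingGroup (Fin n)}
    (hA : HasPres k r tA ⊤) {g₀ K : ℕ} {u₀ : Fin g₀ → Cfsg.SU 4 F q} (h4 : HasPres g₀ K u₀ ⊤)
    {a : Fin 2 → alternatingGroup (Fin 4)} (ha : Subgroup.closure (Set.range a) = ⊤) :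
    ∃ s : Fin (k + 1) → Cfsg.SU n F q, HasPres (k + 1) (r + (K + 3) + 3) s ⊤ := by
  classical
  have hn4 : 4 ≤ n := by omega
  obtain ⟨s, b, x, T, hT, hsm, hbm, hgen, hsx, hbx, hcl⟩ := gen_data hσ hc hF hq ha
  obtain ⟨y, hy⟩ := ext4_surj hσ hn4 (permU_conj_mem hσ (gPerm hn)
    (fun i hi => mem_below.2 (gPerm_small hn (by norm_num) le_rfl (mem_below.1 hi))) (ext4_mem hσ hn4 x))
  have hcyc2 : ∀ i : Fin n, i.val < 3 → (cyc345 hn : Perm (Fin n)) i = i := fun i hi =>
    (c3_apply (by simp [Fin.ext_iff]) (by simp [Fin.ext_iff]) (by simp [Fin.ext_iff])).2.2.2 i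
      (by simp [Fin.ext_iff]; omega) (by simp [Fin.ext_iff]; omega) (by simp [Fin.ext_iff]; omega)
  have hfix : ∀ z ∈ fixS F q (below 4 2), permU hσ (cyc345 hn) * ext4 hσ hn4 z * (permU hσ (cyc345 hn))⁻¹ =
      ext4 hσ hn4 z := fun z hz =>
    conj_eq_self hσ (fun i hi => hcyc2 i (by rw [mem_below] at hi; omega)) ((ext4_mem_below hσ hn4 (by norm_num) z).2 hz)
  refine (pres_glue hσ hc (by omega) hA h4 ha ![x] hcl [(gPerm hn, x, y), (cyc345 hn, s, s), (cyc345 hn, b, b)]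
    ?_ [] (by simp) fun {P} _ D hC _ => ?_).imp fun t ht => ht.mono (by simp)
  · simp only [List.forall_mem_cons, List.not_mem_nil, IsEmpty.forall_iff, implies_true, and_true]
    exact ⟨hy.symm, hfix s hsm, hfix b hbm⟩
  simp only [List.forall_mem_cons, List.not_mem_nil, IsEmpty.forall_iff, implies_true, and_true] at hC
  obtain ⟨hg, hcs, hcb⟩ := hC
  refine D.amal_gen hc hF hq (by omega) ?_
  have hxg : Subgroup.zpowers x ≤ (D.agreeSub (gPerm hn)).comap (ext4 hσ hn4) :=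
    Subgroup.zpowers_le.2 (D.mem_agreeSub hn4 hg)
  have hbg : ext4 hσ hn4 b ∈ D.agreeSub (gPerm hn) := by
    let t4 : alternatingGroup (Fin 4) := ⟨swap 0 1 * swap 2 3, Perm.mem_alternatingGroup.2 (by decide)⟩
    set t := lift4 hn4 t4
    set Tn := lift4 hn4 T
    have e : gPerm hn = t * (Tn * (gPerm hn * Tn)) := by
      refine Subtype.ext (Equiv.ext fun i => ?_)
      show (gPerm hn : Perm (Fin n)) i =
        (t : Perm (Fin n)) ((Tn : Perm (Fin n)) ((gPerm hn : Perm (Fin n)) ((Tn : Perm (Fin n)) i)))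
      by_cases hi : i.val < 4
      · obtain ⟨j, rfl⟩ : ∃ j, i = first4 hn4 j := ⟨⟨i.val, hi⟩, Fin.ext rfl⟩
        have hg4 : ∀ j : Fin 4, (gPerm hn : Perm (Fin n)) (first4 hn4 j) = first4 hn4 (swap 0 1 j) := fun j => by
          rw [gPerm_low hn (by obtain ⟨h, -⟩ := cycStart_spec hn; simp; omega)]
          exact (congrArg₂ (fun u v => swap u v (first4 hn4 j))
            (show (⟨0, _⟩ : Fin n) = first4 hn4 0 from Fin.ext rfl)
            (show (⟨1, _⟩ : Fin n) = first4 hn4 1 from Fin.ext rfl)).trans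
            ((Fin.castLE_injective hn4).swap_apply 0 1 j)
        simp only [Tn, t, lift4_apply, hg4, hT, t4]
        congr 1
        clear hi; revert j; decide
      · have h1 : 4 ≤ ((gPerm hn : Perm (Fin n)) i).val := gPerm_ge hn (by omega)
        rw [lift4_fix hn4 T (i := i) (by omega), lift4_fix hn4 T h1, lift4_fix hn4 t4 h1]
    have hb4 := ext4_mem hσ hn4 b
    have h1 : ext4 hσ hn4 b ∈ D.agreeSub (gPerm hn * Tn) := by
      refine D.agree_comp (D.agree_lift hn4 T hb4) ?_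
      rw [conj_lift4]
      exact hxg hbx
    have h2 : ext4 hσ hn4 b ∈ D.agreeSub (Tn * (gPerm hn * Tn)) := by
      obtain ⟨_, hm, _⟩ := id h1
      exact D.agree_comp h1 (D.agree_lift hn4 T hm)
    rw [e]
    obtain ⟨_, hm, _⟩ := id h2
    exact D.agree_comp h2 (D.agree_lift hn4 t4 hm)
  set H := D.agreeStab hn4 (k := 2) (by norm_num)
  have gH : gPerm hn ∈ H := ⟨fun i hi => mem_below.2 (gPerm_small hn le_rfl (by norm_num) (mem_below.1 hi)),
    D.agree_gens hn4 (by norm_num) hgen (by rintro _ (rfl | rfl); exacts [hxg hsx, hbg])⟩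
  have cH : cyc345 hn ∈ H := ⟨fun i hi => by rw [hcyc2 i (by rw [mem_below] at hi; omega)]; exact hi,
    D.agree_gens hn4 (by norm_num) hgen
      (by rintro _ (rfl | rfl); exacts [D.mem_agreeSub hn4 hcs, D.mem_agreeSub hn4 hcb])⟩
  let t4 : alternatingGroup (Fin 4) := ⟨swap 0 1 * swap 2 3, Perm.mem_alternatingGroup.2 (by decide)⟩
  have tH : lift4 hn4 t4 ∈ H := D.lift4_mem_stab hn4 _ t4 (by decide)
  intro c hc2
  refine (fix2_mem hn H cH (fun u hu => mul_mem (mul_mem gH hu) (inv_mem gH)) (t := lift4 hn4 t4)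
    (fun u hu => mul_mem (mul_mem tH hu) (inv_mem tH)) ?_ ?_ ?_ c hc2).2
  · rw [show (⟨3, _⟩ : Fin n) = first4 hn4 3 from Fin.ext rfl, lift4_apply]
    exact Fin.ext rfl
  · exact lift4_fix hn4 t4 le_rfl
  · exact lift4_fix hn4 t4 (by norm_num)

/-- Five dimensions, not over the field of four elements. -/
theorem pres_five_gen (hq : q ≠ 2) {k r : ℕ} {tA : Fin k → alternatingGroup (Fin 5)}
    (hA : HasPres k r tA ⊤) {g₀ K : ℕ} {u₀ : Fin g₀ → Cfsg.SU 4 F q} (h4 : HasPres g₀ K u₀ ⊤)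
    {a : Fin 2 → alternatingGroup (Fin 4)} (ha : Subgroup.closure (Set.range a) = ⊤) :
    ∃ s : Fin (k + 1) → Cfsg.SU 5 F q, HasPres (k + 1) (r + (K + 3) + 2) s ⊤ := by
  classical
  have hn4 : 4 ≤ 5 := by norm_num
  obtain ⟨s, b, x, T, -, hsm, hbm, hgen, -, -, hcl⟩ := gen_data hσ hc hF hq ha
  let c : alternatingGroup (Fin 5) := ⟨c3 2 3 4, c3_even (by decide) (by decide)⟩
  have hc2 : ∀ i : Fin 5, i.val < 2 → (c : Perm (Fin 5)) i = i := by decide
  have hfix : ∀ z ∈ fixS F q (below 4 2), permU hσ c * ext4 hσ hn4 z * (permU hσ c)⁻¹ = ext4 hσ hn4 z :=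
    fun z hz => conj_eq_self hσ (fun i hi => hc2 i (mem_below.1 hi)) ((ext4_mem_below hσ hn4 (by norm_num) z).2 hz)
  refine (pres_glue hσ hc le_rfl hA h4 ha ![x] hcl [(c, s, s), (c, b, b)]
    ?_ [] (by simp) fun {P} _ D hC _ => ?_).imp fun t ht => ht.mono (by simp)
  · simp only [List.forall_mem_cons, List.not_mem_nil, IsEmpty.forall_iff, implies_true, and_true]
    exact ⟨hfix s hsm, hfix b hbm⟩
  simp only [List.forall_mem_cons, List.not_mem_nil, IsEmpty.forall_iff, implies_true, and_true] at hC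
  refine D.amal_gen hc hF hq le_rfl fun d hd => ?_
  set H := D.agreeStab hn4 (k := 2) (by norm_num)
  have cH : c ∈ H := ⟨fun i hi => by rw [hc2 i (mem_below.1 hi)]; exact hi,
    D.agree_gens hn4 (by norm_num) hgen
      (by rintro _ (rfl | rfl); exacts [D.mem_agreeSub hn4 hC.1, D.mem_agreeSub hn4 hC.2])⟩
  obtain ⟨i, hi⟩ := alt_five_fix (d : Perm (Fin 5)) (Perm.mem_alternatingGroup.1 d.2) (hd 0 (by norm_num))
    (hd 1 (by norm_num))
  have : d = c ^ i.val := Subtype.ext (by rw [SubgroupClass.coe_pow]; exact hi)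
  rw [this]
  exact (pow_mem cH i.val).2

/-- The case of at least six dimensions over the field of four elements. -/
theorem pres_large_two (hn : 6 ≤ n) (hq : q = 2) {k r : ℕ} {tA : Fin k → alternatingGroup (Fin n)}
    (hA : HasPres k r tA ⊤) {g₀ K : ℕ} {u₀ : Fin g₀ → Cfsg.SU 4 F q} (h4 : HasPres g₀ K u₀ ⊤)
    {a : Fin 2 → alternatingGroup (Fin 4)} (ha : Subgroup.closure (Set.range a) = ⊤) :
    ∃ s : Fin (k + 2) → Cfsg.SU n F q, HasPres (k + 2) (r + (K + 4) + 8) s ⊤ := by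
  classical
  have hn4 : 4 ≤ n := by omega
  obtain ⟨f, f2, hfm, hf2m, hgen, hcl⟩ := gen_data_two hσ hc hF hq ha
  have hg4 : ∀ i ∈ below n 4, (gPerm hn : Perm (Fin n)) i ∈ below n 4 := fun i hi =>
    mem_below.2 (gPerm_small hn (by norm_num) le_rfl (mem_below.1 hi))
  obtain ⟨y1, hy1⟩ := ext4_surj hσ hn4 (permU_conj_mem hσ (gPerm hn) hg4 (ext4_mem hσ hn4 f))
  obtain ⟨y2, hy2⟩ := ext4_surj hσ hn4 (permU_conj_mem hσ (gPerm hn) hg4 (ext4_mem hσ hn4 f2))
  have hcyc3 : ∀ i : Fin n, i.val < 3 → (cyc345 hn : Perm (Fin n)) i = i := fun i hi =>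
    (c3_apply (by simp [Fin.ext_iff]) (by simp [Fin.ext_iff]) (by simp [Fin.ext_iff])).2.2.2 i
      (by simp [Fin.ext_iff]; omega) (by simp [Fin.ext_iff]; omega) (by simp [Fin.ext_iff]; omega)
  have hfix : ∀ z ∈ fixS F q (below 4 3), permU hσ (cyc345 hn) * ext4 hσ hn4 z * (permU hσ (cyc345 hn))⁻¹ =
      ext4 hσ hn4 z := fun z hz =>
    conj_eq_self hσ (fun i hi => hcyc3 i (mem_below.1 hi)) ((ext4_mem_below hσ hn4 (by norm_num) z).2 hz)
  let p0 : Fin n := ⟨0, by omega⟩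
  let p1 : Fin n := ⟨1, by omega⟩
  let p2 : Fin n := ⟨2, by omega⟩
  let p3 : Fin n := ⟨3, by omega⟩
  let p4 : Fin n := ⟨4, by omega⟩
  let p5 : Fin n := ⟨5, by omega⟩
  let m : alternatingGroup (Fin n) := ⟨swap p0 p3 * swap p1 p4 * swap p2 p5 * swap p1 p2,
    Perm.mem_alternatingGroup.2 (by
      simp only [Perm.sign_mul, Perm.sign_swap (show p0 ≠ p3 by simp [p0, p3, Fin.ext_iff]),
        Perm.sign_swap (show p1 ≠ p4 by simp [p1, p4, Fin.ext_iff]),
        Perm.sign_swap (show p2 ≠ p5 by simp [p2, p5, Fin.ext_iff]),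
        Perm.sign_swap (show p1 ≠ p2 by simp [p1, p2, Fin.ext_iff])]
      rfl)⟩
  have hlt : ∀ i : Fin n, i.val < 3 → i = p0 ∨ i = p1 ∨ i = p2 := fun i hi => by
    simp only [p0, p1, p2, Fin.ext_iff]; omega
  have hm : ∀ i ∈ below n 3, (m : Perm (Fin n)) i ∈ win n 3 6 := fun i hi => by
    rcases hlt i (mem_below.1 hi) with rfl | rfl | rfl <;>
      simp [m, p0, p1, p2, p3, p4, p5, swap_apply_def, Fin.ext_iff, mem_win]
  have hm' : ∀ i ∈ win n 3 (3 + 3), (m : Perm (Fin n))⁻¹ i ∈ below n 3 := fun i hi => by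
    rw [mem_win] at hi
    have : i = p3 ∨ i = p4 ∨ i = p5 := by simp only [p3, p4, p5, Fin.ext_iff]; omega
    rcases this with rfl | rfl | rfl <;>
      simp [m, p0, p1, p2, p3, p4, p5, swap_apply_def, Fin.ext_iff, mem_below, Perm.inv_def]
  have hcom : ∀ z ∈ fixS F q (below 4 3), ∀ w ∈ fixS F q (below 4 3),
      Commute (ext4 hσ hn4 z) (permU hσ m * ext4 hσ hn4 w * (permU hσ m)⁻¹) := fun z hz w hw =>
    (fixS_commute hσ (below_disjoint_win le_rfl) ((ext4_mem_below hσ hn4 (by norm_num) z).2 hz)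
      (permU_conj_mem hσ m hm ((ext4_mem_below hσ hn4 (by norm_num) w).2 hw)))
  refine (pres_glue hσ hc (by omega) hA h4 ha ![f, f2] hcl
    [(gPerm hn, f, y1), (gPerm hn, f2, y2), (cyc345 hn, f, f), (cyc345 hn, f2, f2)] ?_
    [(f, m, f), (f, m, f2), (f2, m, f), (f2, m, f2)] ?_
    fun {P} _ D hC hK => ?_).imp fun t ht => ht.mono (by simp)
  · simp only [List.forall_mem_cons, List.not_mem_nil, IsEmpty.forall_iff, implies_true, and_true]
    exact ⟨hy1.symm, hy2.symm, hfix f hfm, hfix f2 hf2m⟩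
  · simp only [List.forall_mem_cons, List.not_mem_nil, IsEmpty.forall_iff, implies_true, and_true]
    exact ⟨hcom f hfm f hfm, hcom f hfm f2 hf2m, hcom f2 hf2m f hfm, hcom f2 hf2m f2 hf2m⟩
  simp only [List.forall_mem_cons, List.not_mem_nil, IsEmpty.forall_iff, implies_true, and_true] at hC hK
  obtain ⟨g1, g2, c1, c2⟩ := hC
  set H := D.agreeStab hn4 (k := 3) (by norm_num)
  have gH : gPerm hn ∈ H := ⟨fun i hi => mem_below.2 (gPerm_small hn (by norm_num) (by norm_num) (mem_below.1 hi)),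
    D.agree_gens hn4 (by norm_num) hgen
      (by rintro _ (rfl | rfl); exacts [D.mem_agreeSub hn4 g1, D.mem_agreeSub hn4 g2])⟩
  have cH : cyc345 hn ∈ H := ⟨fun i hi => by rw [hcyc3 i (mem_below.1 hi)]; exact hi,
    D.agree_gens hn4 (by norm_num) hgen
      (by rintro _ (rfl | rfl); exacts [D.mem_agreeSub hn4 c1, D.mem_agreeSub hn4 c2])⟩
  let R4 : alternatingGroup (Fin 4) := ⟨c3 0 1 2, c3_even (by decide) (by decide)⟩
  set R := lift4 hn4 R4
  have RH : R ∈ H := D.lift4_mem_stab hn4 _ R4 (by decide)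
  have rv : ∀ j : Fin 4, (R : Perm (Fin n)) (first4 hn4 j) = first4 hn4 (c3 0 1 2 j) := fun j => lift4_apply hn4 R4 j
  have R0 : (R : Perm (Fin n)) p0 = p1 := rv 0
  have R1 : (R : Perm (Fin n)) p1 = p2 := rv 1
  have R2 : (R : Perm (Fin n)) p2 = p0 := rv 2
  have hcs : 4 ≤ cycStart n := (cycStart_spec hn).1
  have g0 : (gPerm hn : Perm (Fin n)) p0 = p1 := by
    rw [gPerm_low hn (by simp [p0]; omega)]; exact swap_apply_left _ _
  have g1' : (gPerm hn : Perm (Fin n)) p1 = p0 := by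
    rw [gPerm_low hn (by simp [p1]; omega)]; exact swap_apply_right _ _
  have g2' : (gPerm hn : Perm (Fin n)) p2 = p2 := by
    rw [gPerm_low hn (by simp [p2]; omega)]
    exact swap_apply_of_ne_of_ne (by simp [p2, Fin.ext_iff]) (by simp [p2, Fin.ext_iff])
  have h3 : ∀ c : alternatingGroup (Fin n), (∀ i ∈ below n 3, (c : Perm (Fin n)) i ∈ below n 3) →
      D.AgreeOn c (below n 3) := by
    intro c hc3
    suffices hcH : c ∈ H from hcH.2
    have q0 : p0 ∈ below n 3 := mem_below.2 (by simp [p0])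
    have q1 : p1 ∈ below n 3 := mem_below.2 (by simp [p1])
    have q2 : p2 ∈ below n 3 := mem_below.2 (by simp [p2])
    obtain ⟨r, rH, r0⟩ : ∃ r ∈ H, (r : Perm (Fin n)) p0 = (c : Perm (Fin n)) p0 := by
      rcases hlt _ (mem_below.1 (hc3 p0 q0)) with e | e | e <;> rw [e]
      · exact ⟨1, one_mem H, rfl⟩
      · exact ⟨R, RH, R0⟩
      · exact ⟨R * R, mul_mem RH RH, by rw [Subgroup.coe_mul, Perm.mul_apply, R0, R1]⟩
    set d : alternatingGroup (Fin n) := r⁻¹ * c with hd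
    have d0 : (d : Perm (Fin n)) p0 = p0 := by
      show (r : Perm (Fin n))⁻¹ ((c : Perm (Fin n)) p0) = p0
      rw [← r0, Perm.inv_def, Equiv.symm_apply_apply]
    have hd3 : ∀ i ∈ below n 3, (d : Perm (Fin n)) i ∈ below n 3 := fun i hi => (inv_mem rH).1 _ (hc3 i hi)
    suffices hdH : d ∈ H by simpa [hd] using mul_mem rH hdH
    have hone : ∀ u : alternatingGroup (Fin n), (u : Perm (Fin n)) p0 = p0 → (u : Perm (Fin n)) p1 = p1 →
        (u : Perm (Fin n)) p2 ∈ below n 3 → u ∈ H := fun u u0 u1 u2 => by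
      refine fix3_mem hn H cH (fun v hv => mul_mem (mul_mem gH hv) (inv_mem gH)) u fun i hi => ?_
      rcases hlt i hi with rfl | rfl | rfl
      · exact u0
      · exact u1
      · rcases hlt _ (mem_below.1 u2) with e | e | e
        · exact absurd ((u : Perm (Fin n)).injective (e.trans u0.symm)) (by simp [p0, p2, Fin.ext_iff])
        · exact absurd ((u : Perm (Fin n)).injective (e.trans u1.symm)) (by simp [p1, p2, Fin.ext_iff])
        · exact e
    rcases hlt _ (mem_below.1 (hd3 p1 q1)) with e | e | e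
    · exact absurd ((d : Perm (Fin n)).injective (e.trans d0.symm)) (by simp [p0, p1, Fin.ext_iff])
    · exact hone d d0 e (hd3 p2 q2)
    · set w : alternatingGroup (Fin n) := R * gPerm hn * R⁻¹ with hw
      have wH : w ∈ H := mul_mem (mul_mem RH gH) (inv_mem RH)
      have wv : ∀ i, (w : Perm (Fin n)) ((R : Perm (Fin n)) i) = (R : Perm (Fin n)) ((gPerm hn : Perm (Fin n)) i) :=
        fun i => by
          show (R : Perm (Fin n)) ((gPerm hn : Perm (Fin n)) ((R : Perm (Fin n))⁻¹ ((R : Perm (Fin n)) i))) = _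
          rw [Perm.inv_def, Equiv.symm_apply_apply]
      have w0 : (w : Perm (Fin n)) p0 = p0 := by
        have := wv p2; rwa [R2, g2', R2] at this
      have w1 : (w : Perm (Fin n)) p1 = p2 := by
        have := wv p0; rwa [R0, g0, R1] at this
      have := hone (w⁻¹ * d) (by
          show (w : Perm (Fin n))⁻¹ ((d : Perm (Fin n)) p0) = p0
          rw [d0, Perm.inv_eq_iff_eq, w0])
        (by
          show (w : Perm (Fin n))⁻¹ ((d : Perm (Fin n)) p1) = p1
          rw [e, Perm.inv_eq_iff_eq, w1])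
        ((inv_mem wH).1 _ (hd3 p2 q2))
      simpa using mul_mem wH this
  refine D.amal_two hc (by omega) h3 (D.fix_two_of_three hn h3) (k := 3) (by norm_num) le_rfl (fun _ => rfl) m hm'
    fun z hz w hw => ?_
  obtain ⟨z', rfl⟩ := (ext4Equiv hσ hn4).surjective z
  obtain ⟨w', rfl⟩ := (ext4Equiv hσ hn4).surjective w
  refine commute_closure (D.β.comp (ext4Equiv hσ hn4).toMonoidHom)
    ((MulAut.conj (D.ψ m)).toMonoidHom.comp (D.β.comp (ext4Equiv hσ hn4).toMonoidHom))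
    (G := {f, f2}) (G' := {f, f2}) ?_ z' (hgen ((ext4_mem_below hσ hn4 (by norm_num) z').1 hz)) w'
    (hgen ((ext4_mem_below hσ hn4 (by norm_num) w').1 hw))
  rintro _ (rfl | rfl) _ (rfl | rfl)
  exacts [hK.1, hK.2.1, hK.2.2.1, hK.2.2.2]

/-- Five dimensions over the field of four elements. -/
theorem pres_five_two (hq : q = 2) {k r : ℕ} {tA : Fin k → alternatingGroup (Fin 5)}
    (hA : HasPres k r tA ⊤) {g₀ K : ℕ} {u₀ : Fin g₀ → Cfsg.SU 4 F q} (h4 : HasPres g₀ K u₀ ⊤)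
    {a : Fin 2 → alternatingGroup (Fin 4)} (ha : Subgroup.closure (Set.range a) = ⊤) :
    ∃ s : Fin (k + 2) → Cfsg.SU 5 F q, HasPres (k + 2) (r + (K + 4) + 8) s ⊤ := by
  classical
  have hn4 : 4 ≤ 5 := by norm_num
  obtain ⟨f, f2, hfm, hf2m, hgen, hcl⟩ := gen_data_two hσ hc hF hq ha
  obtain ⟨s, b, -, -, -, -, -, hsm, hbm, hgen2⟩ := pair_data hσ hc hF
  let c : alternatingGroup (Fin 5) := ⟨c3 2 3 4, c3_even (by decide) (by decide)⟩
  let w : alternatingGroup (Fin 5) := ⟨swap 0 1 * swap 3 4, Perm.mem_alternatingGroup.2 (by decide)⟩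
  let m : alternatingGroup (Fin 5) := ⟨swap 0 3 * swap 1 4, Perm.mem_alternatingGroup.2 (by decide)⟩
  let R : alternatingGroup (Fin 5) := ⟨c3 0 1 2, c3_even (by decide) (by decide)⟩
  have hc2 : ∀ i : Fin 5, i.val < 2 → (c : Perm (Fin 5)) i = i := by decide
  have hfix : ∀ z ∈ fixS F q (below 4 2), permU hσ c * ext4 hσ hn4 z * (permU hσ c)⁻¹ = ext4 hσ hn4 z :=
    fun z hz => conj_eq_self hσ (fun i hi => hc2 i (mem_below.1 hi)) ((ext4_mem_below hσ hn4 (by norm_num) z).2 hz)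
  have hw4 : ∀ i ∈ below 5 3, (w : Perm (Fin 5)) i ∈ below 5 3 := by decide
  have hw44 : ∀ z ∈ fixS F q (below 4 3), ∃ y, ext4 hσ hn4 y = permU hσ w * ext4 hσ hn4 z * (permU hσ w)⁻¹ :=
    fun z hz => ext4_surj hσ hn4 (fixS_mono (below_mono (by norm_num))
      (permU_conj_mem hσ w hw4 ((ext4_mem_below hσ hn4 (by norm_num) z).2 hz)))
  obtain ⟨y1, hy1⟩ := hw44 f hfm
  obtain ⟨y2, hy2⟩ := hw44 f2 hf2m
  have hm : ∀ i ∈ below 5 2, (m : Perm (Fin 5)) i ∈ win 5 3 5 := by decide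
  have hcom : ∀ z ∈ fixS F q (below 4 3), ∀ v ∈ fixS F q (below 4 2),
      Commute (ext4 hσ hn4 z) (permU hσ m * ext4 hσ hn4 v * (permU hσ m)⁻¹) := fun z hz v hv =>
    (fixS_commute hσ (below_disjoint_win le_rfl) ((ext4_mem_below hσ hn4 (by norm_num) z).2 hz)
      (permU_conj_mem hσ m hm ((ext4_mem_below hσ hn4 (by norm_num) v).2 hv)))
  refine (pres_glue hσ hc le_rfl hA h4 ha ![f, f2] hcl
    [(w, f, y1), (w, f2, y2), (c, s, s), (c, b, b)] ?_
    [(f, m, s), (f, m, b), (f2, m, s), (f2, m, b)] ?_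
    fun {P} _ D hC hK => ?_).imp fun t ht => ht.mono (by simp)
  · simp only [List.forall_mem_cons, List.not_mem_nil, IsEmpty.forall_iff, implies_true, and_true]
    exact ⟨hy1.symm, hy2.symm, hfix s hsm, hfix b hbm⟩
  · simp only [List.forall_mem_cons, List.not_mem_nil, IsEmpty.forall_iff, implies_true, and_true]
    exact ⟨hcom f hfm s hsm, hcom f hfm b hbm, hcom f2 hf2m s hsm, hcom f2 hf2m b hbm⟩
  simp only [List.forall_mem_cons, List.not_mem_nil, IsEmpty.forall_iff, implies_true, and_true] at hC hK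
  obtain ⟨w1, w2, c1, c2⟩ := hC
  set H := D.agreeStab hn4 (k := 3) (by norm_num)
  set H2 := D.agreeStab hn4 (k := 2) (by norm_num)
  have cH : c ∈ H2 := ⟨fun i hi => by rw [hc2 i (mem_below.1 hi)]; exact hi,
    D.agree_gens hn4 (by norm_num) hgen2
      (by rintro _ (rfl | rfl); exacts [D.mem_agreeSub hn4 c1, D.mem_agreeSub hn4 c2])⟩
  have wH : w ∈ H := ⟨hw4, D.agree_gens hn4 (by norm_num) hgen
      (by rintro _ (rfl | rfl); exacts [D.mem_agreeSub hn4 w1, D.mem_agreeSub hn4 w2])⟩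
  have RH : R ∈ H := by
    obtain ⟨R4, hR4⟩ := exists_lift4_eq hn4 R (by decide)
    exact ⟨by decide, hR4 ▸ D.agree_four hn4 R4 _⟩
  have h3 : ∀ d : alternatingGroup (Fin 5), (∀ i ∈ below 5 3, (d : Perm (Fin 5)) i ∈ below 5 3) →
      D.AgreeOn d (below 5 3) := by
    intro d hd
    obtain ⟨i, e, hie⟩ := alt_five_stab (d : Perm (Fin 5)) (Perm.mem_alternatingGroup.1 d.2)
      (mem_below.1 (hd 0 (by decide))) (mem_below.1 (hd 1 (by decide))) (mem_below.1 (hd 2 (by decide)))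
    have : d = R ^ i.val * w ^ e.val :=
      Subtype.ext (by rw [Subgroup.coe_mul, SubgroupClass.coe_pow, SubgroupClass.coe_pow]; exact hie)
    rw [this]
    exact (mul_mem (pow_mem RH i.val) (pow_mem wH e.val)).2
  have h2 : ∀ d : alternatingGroup (Fin 5), (∀ i : Fin 5, i.val < 2 → (d : Perm (Fin 5)) i = i) →
      D.AgreeOn d (below 5 2) := by
    intro d hd
    obtain ⟨i, hi⟩ := alt_five_fix (d : Perm (Fin 5)) (Perm.mem_alternatingGroup.1 d.2) (hd 0 (by norm_num))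
      (hd 1 (by norm_num))
    have : d = c ^ i.val := Subtype.ext (by rw [SubgroupClass.coe_pow]; exact hi)
    rw [this]
    exact (pow_mem cH i.val).2
  refine D.amal_two hc le_rfl h3 h2 (k := 2) le_rfl (by norm_num) (fun h => absurd h (by norm_num)) m
    (by decide) fun z hz v hv => ?_
  obtain ⟨z', rfl⟩ := (ext4Equiv hσ hn4).surjective z
  obtain ⟨v', rfl⟩ := (ext4Equiv hσ hn4).surjective v
  refine commute_closure (D.β.comp (ext4Equiv hσ hn4).toMonoidHom)
    ((MulAut.conj (D.ψ m)).toMonoidHom.comp (D.β.comp (ext4Equiv hσ hn4).toMonoidHom))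
    (G := {f, f2}) (G' := {s, b}) ?_ z' (hgen ((ext4_mem_below hσ hn4 (by norm_num) z').1 hz)) v'
    (hgen2 ((ext4_mem_below hσ hn4 (by norm_num) v').1 hv))
  rintro _ (rfl | rfl) _ (rfl | rfl)
  exacts [hK.1, hK.2.1, hK.2.2.1, hK.2.2.2]

end CfsgLib.SUPres
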