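import Cfsg.Agent.Lib.KnownB.SUPres.FourRoots

/-!
# Three double cosets of the parabolic subgroup fill the group
-/

set_option autoImplicit false
set_option linter.unusedSectionVars false

open Matrix CfsgLib.Perm.Quad.SL2 CfsgLib.SL2Pres CfsgLib.SLPres CfsgLib.Classical

namespace CfsgLib.SUPres

/-- An element of determinant one, decomposed over the lower triangular subgroup. -/
theorem lower_bruhat {K : Type*} [Field K] (A : SL K) :
    (∃ s c, ∃ h : (c : K) ≠ 0, A = low s * dg c h) ∨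
      ∃ s c s', ∃ h : (c : K) ≠ 0, A = low s * dg c h * jSL * low s' := by
  have hd := det2 A
  by_cases h01 : A.1 0 1 = 0
  · rw [h01, zero_mul, sub_zero] at hd
    refine Or.inl ⟨A.1 1 0 / A.1 0 0, A.1 0 0, left_ne_zero_of_mul_eq_one hd, ?_⟩
    have h00 := left_ne_zero_of_mul_eq_one hd
    apply ext2 <;> simp [mul_apply2, low_val, dg_val, h01] <;> field_simp
    linear_combination hd
  · refine Or.inr ⟨A.1 1 1 / A.1 0 1, A.1 0 1, A.1 0 0 / A.1 0 1, h01, ?_⟩
    apply ext2 <;> simp [mul_apply2, low_val, dg_val, jSL_coe] <;> field_simp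
    linear_combination -hd

variable {F : Type*} [Field F] {σ : F →+* F} (hc : IsConjugation σ)
variable {P : Type*} [Group P] {φ : SL F →* P} {L : SL (fixK σ) →* P}
variable [Finite F] {w δ : F} {hw : w ≠ 0} (R : Four hc φ L w δ hw)
include R

/-- The parabolic subgroup. -/
def par (R : Four hc φ L w δ hw) : Subgroup P :=
  Subgroup.closure (Set.range φ ∪ {p | ∃ a, ∃ ha : (a : fixK σ) ≠ 0, p = L (dg a ha)} ∪ (rad hc R : Set P))

theorem phi_par (A : SL F) : φ A ∈ par hc R := Subgroup.subset_closure (Or.inl (Or.inl ⟨A, rfl⟩))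

theorem tor_par {a : fixK σ} (ha : a ≠ 0) : L (dg a ha) ∈ par hc R :=
  Subgroup.subset_closure (Or.inl (Or.inr ⟨a, ha, rfl⟩))

theorem qq_par (k : fixK σ) (t : F) (m : fixK σ) : qq hc R k t m ∈ par hc R :=
  Subgroup.subset_closure (Or.inr ⟨k, t, m, rfl⟩)

theorem u0_par (k : fixK σ) : L (up k) ∈ par hc R := u0_qq hc R k ▸ qq_par hc R k 0 0

theorem u1_par (k : fixK σ) : Lb φ L (up k) ∈ par hc R := u1_qq hc R k ▸ qq_par hc R 0 0 k

theorem zz_par (t : F) : zz φ L δ t ∈ par hc R := zz_qq hc R t ▸ qq_par hc R 0 t 0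

/-- The normal form of an element of the parabolic subgroup. -/
theorem par_form {p : P} (hp : p ∈ par hc R) :
    ∃ A a, ∃ ha : (a : fixK σ) ≠ 0, ∃ k t m, p = φ A * L (dg a ha) * qq hc R k t m := by
  have radm : ∀ {g : P}, g ∈ rad hc R → ∀ A a (ha : (a : fixK σ) ≠ 0),
      ∃ g' ∈ rad hc R, g * (φ A * L (dg a ha)) = φ A * L (dg a ha) * g' := by
    intro g hg A a ha
    have h1 := rad_conj hc R A⁻¹ hg
    rw [map_inv, inv_inv] at h1
    obtain ⟨k, t, m, e⟩ := h1
    have hi : a⁻¹ ≠ 0 := inv_ne_zero ha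
    refine ⟨L (dg a⁻¹ hi) * qq hc R k t m * (L (dg a⁻¹ hi))⁻¹, ⟨_, _, _, La_qq hc R hi k t m⟩, ?_⟩
    rw [← e, ← dg_inv ha, map_inv]
    group
  induction hp using Subgroup.closure_induction_left with
  | one =>
    exact ⟨1, 1, one_ne_zero, 0, 0, 0, by
      rw [map_one, qq_zero, show dg (1 : fixK σ) one_ne_zero = 1 by apply ext2 <;> simp [dg_val], map_one]; group⟩
  | mul_left x hx y _ hy =>
    obtain ⟨A, a, ha, k, t, m, rfl⟩ := hy
    rcases hx with (⟨B, rfl⟩ | ⟨b, hb, rfl⟩) | hx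
    · exact ⟨B * A, a, ha, k, t, m, by rw [map_mul]; group⟩
    · refine ⟨scHom (Subtype.coe_injective.ne hb) A, b * a, mul_ne_zero hb ha, k, t, m, ?_⟩
      rw [← scale_all_up hc R hb, ← dg_mul_dg hb ha, map_mul]; group
    · obtain ⟨g', ⟨k', t', m', rfl⟩, e⟩ := radm hx A a ha
      exact ⟨A, a, ha, k' + k, t' + t, m' + m, by rw [← mul_assoc, e, mul_assoc, qq_mul]⟩
  | inv_mul_cancel x hx y _ hy =>
    obtain ⟨A, a, ha, k, t, m, rfl⟩ := hy
    rcases hx with (⟨B, rfl⟩ | ⟨b, hb, rfl⟩) | hx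
    · exact ⟨B⁻¹ * A, a, ha, k, t, m, by rw [map_mul, map_inv]; group⟩
    · refine ⟨scHom (Subtype.coe_injective.ne (inv_ne_zero hb)) A, b⁻¹ * a, mul_ne_zero (inv_ne_zero hb) ha, k, t,
        m, ?_⟩
      rw [← scale_all_up hc R (inv_ne_zero hb), ← dg_mul_dg (inv_ne_zero hb) ha, ← dg_inv hb, map_mul, map_inv]
      group
    · obtain ⟨g', ⟨k', t', m', rfl⟩, e⟩ := radm (inv_mem hx) A a ha
      exact ⟨A, a, ha, k' + k, t' + t, m' + m, by rw [← mul_assoc, e, mul_assoc, qq_mul]⟩

theorem Lb_tor_par {a : fixK σ} (ha : a ≠ 0) : Lb φ L (dg a ha) ∈ par hc R := by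
  have e : Lb φ L (dg a ha) = (φ (dg (a : F) (Subtype.coe_injective.ne ha)))⁻¹ * L (dg a ha) := by
    rw [tor hc R ha, _root_.mul_inv_rev, inv_inv]; group
  exact e ▸ mul_mem (inv_mem (phi_par hc R _)) (tor_par hc R ha)

/-- Upper triangular elements of a rank one subgroup. -/
theorem K_bruhat (z : SL (fixK σ)) :
    (L z ∈ par hc R ∧ Lb φ L z ∈ par hc R) ∨
      ∃ b b', z = b * jSL * b' ∧ L b ∈ par hc R ∧ Lb φ L b ∈ par hc R ∧ L b' ∈ par hc R ∧ Lb φ L b' ∈ par hc R := by
  have bor : ∀ x e (he : (e : fixK σ) ≠ 0), L (up x * dg e he) ∈ par hc R ∧ Lb φ L (up x * dg e he) ∈ par hc R :=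
    fun x e he => ⟨by rw [map_mul]; exact mul_mem (u0_par hc R x) (tor_par hc R he),
      by rw [Lb_mul]; exact mul_mem (u1_par hc R x) (Lb_tor_par hc R he)⟩
  have hd := det2 z
  by_cases h10 : z.1 1 0 = 0
  · rw [h10, mul_zero, sub_zero] at hd
    have h00 := left_ne_zero_of_mul_eq_one hd
    left
    have : z = up (z.1 0 1 * z.1 0 0) * dg (z.1 0 0) h00 := by
      apply ext2 <;> simp [mul_apply2, up_val, dg_val, h10] <;> field_simp
      linear_combination hd
    rw [this]; exact bor _ _ h00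
  · right
    have he : -(z.1 1 0)⁻¹ ≠ 0 := neg_ne_zero.2 (inv_ne_zero h10)
    refine ⟨up (z.1 0 0 / z.1 1 0) * dg _ he, up (z.1 1 1 / z.1 1 0), ?_, (bor _ _ he).1, (bor _ _ he).2,
      u0_par hc R _, u1_par hc R _⟩
    apply ext2 <;> simp [mul_apply2, up_val, dg_val, jSL_coe] <;> field_simp
    linear_combination -hd

/-- The union of the three double cosets. -/
def InS (R : Four hc φ L w δ hw) (x : P) : Prop :=
  x ∈ par hc R ∨ ∃ p ∈ par hc R, ∃ p' ∈ par hc R, x = p * L jSL * p' ∨ x = p * Wd φ L * p'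

theorem inS_left {g x : P} (hg : g ∈ par hc R) (h : InS hc R x) : InS hc R (g * x) := by
  rcases h with h | ⟨p, hp, p', hp', rfl | rfl⟩
  · exact Or.inl (mul_mem hg h)
  · exact Or.inr ⟨g * p, mul_mem hg hp, p', hp', Or.inl (by group)⟩
  · exact Or.inr ⟨g * p, mul_mem hg hp, p', hp', Or.inr (by group)⟩

theorem inS_right {g x : P} (hg : g ∈ par hc R) (h : InS hc R x) : InS hc R (x * g) := by
  rcases h with h | ⟨p, hp, p', hp', rfl | rfl⟩
  · exact Or.inl (mul_mem h hg)
  · exact Or.inr ⟨p, hp, p' * g, mul_mem hp' hg, Or.inl (by group)⟩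
  · exact Or.inr ⟨p, hp, p' * g, mul_mem hp' hg, Or.inr (by group)⟩

theorem N0_J : L jSL * φ jSL = φ jSL * Lb φ L jSL := by
  rw [eq_comm, ← mul_inv_eq_iff_eq_mul]; exact J_Lb hc R jSL

theorem inS_L (z : SL (fixK σ)) : InS hc R (L z) := by
  rcases K_bruhat hc R z with h | ⟨b, b', e, hb, -, hb', -⟩
  · exact Or.inl h.1
  · exact Or.inr ⟨L b, hb, L b', hb', Or.inl (by rw [e, map_mul, map_mul])⟩

theorem N1_inS : InS hc R (Lb φ L jSL) :=
  Or.inr ⟨_, phi_par hc R jSL, _, inv_mem (phi_par hc R jSL), Or.inl rfl⟩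

theorem inS_L_N1 (z : SL (fixK σ)) : InS hc R (L z * Lb φ L jSL) := by
  rcases K_bruhat hc R z with h | ⟨b, b', e, hb, -, hb', -⟩
  · exact inS_left hc R h.1 (N1_inS hc R)
  · exact Or.inr ⟨L b, hb, L b', hb', Or.inr (by
      rw [e, map_mul, map_mul, mul_assoc _ (L b'), (R.comm b' jSL).eq, Wd]; group)⟩

theorem inS_Lb_N0 (z : SL (fixK σ)) : InS hc R (Lb φ L z * L jSL) := by
  rcases K_bruhat hc R z with h | ⟨b, b', e, -, hb, -, hb'⟩
  · exact inS_left hc R h.2 (Or.inr ⟨1, one_mem _, 1, one_mem _, Or.inl (by group)⟩)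
  · exact Or.inr ⟨Lb φ L b, hb, Lb φ L b', hb', Or.inr (by
      rw [e, Lb_mul, Lb_mul, mul_assoc _ (Lb φ L b'), ← (R.comm jSL b').eq, Wd, (R.comm jSL jSL).eq]; group)⟩

theorem N0_low (s : F) : ∃ g ∈ par hc R, L jSL * φ (low s) = g * L jSL := by
  have h1 : (-1 : fixK σ) ≠ 0 := neg_ne_zero.2 one_ne_zero
  refine ⟨L (dg _ h1) * zz φ L δ (σ s * δ) * (L (dg _ h1))⁻¹,
    mul_mem (mul_mem (tor_par hc R h1) (zz_par hc R _)) (inv_mem (tor_par hc R h1)), ?_⟩
  have e := twin hc R (σ s * δ)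
  rw [show -σ (σ s * δ) / δ = s by rw [map_mul, hc.invol, R.hδσ]; have := R.hδ; field_simp] at e
  rw [← e, ← jSL_sq, map_mul]
  group

theorem N0_dg {c : F} (h : c ≠ 0) : ∃ g ∈ par hc R, L jSL * φ (dg c h) = g * L jSL := by
  have hN := nK_ne hc h
  have e := conjL hc R (inv_ne_zero h) jSL
  rw [scHom_jSL, map_mul, ← dg_inv h, map_inv, inv_inv] at e
  exact ⟨φ (dg c h) * L (dg _ (nK_ne hc (inv_ne_zero h))),
    mul_mem (phi_par hc R _) (tor_par hc R _), by rw [mul_assoc, ← e]; group⟩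

theorem N0_tor {a : fixK σ} (ha : a ≠ 0) : ∃ g ∈ par hc R, L jSL * L (dg a ha) = g * L jSL :=
  ⟨L (dg a⁻¹ (inv_ne_zero ha)), tor_par hc R _, by
    rw [← map_mul, ← map_mul]; congr 1; apply ext2 <;> simp [mul_apply2, dg_val, jSL_coe]⟩

/-- The first reflection times the parabolic subgroup times a double coset representative. -/
theorem N0_mid {p : P} (hp : p ∈ par hc R) :
    InS hc R (L jSL * p * L jSL) ∧ InS hc R (L jSL * p * Wd φ L) := by
  obtain ⟨A, a, ha, k, t, m, rfl⟩ := par_form hc R hp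
  rcases lower_bruhat A with ⟨s, c, h, rfl⟩ | ⟨s, c, s', h, rfl⟩
  · obtain ⟨g1, hg1, e1⟩ := N0_low hc R s
    obtain ⟨g2, hg2, e2⟩ := N0_dg hc R h
    obtain ⟨g3, hg3, e3⟩ := N0_tor hc R ha
    obtain ⟨g4, hg4, e4⟩ := N0_low hc R (-σ t / δ)
    have hz : L jSL * zz φ L δ t = φ (low (-σ t / δ)) * L jSL := by rw [← twin hc R t]; group
    have key : L jSL * (φ (low s * dg c h) * L (dg a ha) * qq hc R k t m) =
        g1 * g2 * g3 * (Lb φ L (up m) * φ (low (-σ t / δ))) * (L (jSL * up k)) := by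
      rw [map_mul, map_mul]
      calc L jSL * (φ (low s) * φ (dg c h) * L (dg a ha) * qq hc R k t m)
          = L jSL * φ (low s) * φ (dg c h) * L (dg a ha) * qq hc R k t m := by group
        _ = g1 * (L jSL * φ (dg c h)) * L (dg a ha) * qq hc R k t m := by rw [e1]; group
        _ = g1 * g2 * (L jSL * L (dg a ha)) * qq hc R k t m := by rw [e2]; group
        _ = g1 * g2 * g3 * (L jSL * qq hc R k t m) := by rw [e3]; group
        _ = g1 * g2 * g3 * (L jSL * (qq hc R 0 0 m * qq hc R 0 t 0 * qq hc R k 0 0)) := by simp [qq_mul]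
        _ = g1 * g2 * g3 * (L jSL * Lb φ L (up m) * zz φ L δ t * L (up k)) := by
          rw [← u1_qq, ← zz_qq, ← u0_qq]; group
        _ = g1 * g2 * g3 * (Lb φ L (up m) * (L jSL * zz φ L δ t) * L (up k)) := by
          rw [(R.comm jSL (up m)).eq]; group
        _ = _ := by rw [hz]; group
    have hg : g1 * g2 * g3 * (Lb φ L (up m) * φ (low (-σ t / δ))) ∈ par hc R :=
      mul_mem (mul_mem (mul_mem hg1 hg2) hg3) (mul_mem (u1_par hc R m) (phi_par hc R _))
    constructor
    · rw [key, mul_assoc, ← map_mul]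
      exact inS_left hc R hg (inS_L hc R _)
    · rw [key, mul_assoc, Wd, ← mul_assoc (L _), ← map_mul]
      exact inS_left hc R hg (inS_L_N1 hc R _)
  · obtain ⟨g1, hg1, e1⟩ := N0_low hc R s
    obtain ⟨g2, hg2, e2⟩ := N0_dg hc R h
    have ha0 : (a : F) ≠ 0 := Subtype.coe_injective.ne ha
    have hlow : φ (low s') * L (dg a ha) = L (dg a ha) * φ (low ((a : F) * s')) := by
      have := scale_all_up hc R ha (low ((a : F) * s'))
      rw [scHom_low, inv_mul_cancel_left₀ ha0, mul_inv_eq_iff_eq_mul] at this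
      exact this.symm
    have hq := low_qq hc R ((a : F) * s') k t m
    set x := (a : F) * s'
    obtain ⟨k', t', m', hq⟩ : ∃ k' t' m', φ (low x) * qq hc R k t m = qq hc R k' t' m' * φ (low x) :=
      ⟨_, _, _, mul_inv_eq_iff_eq_mul.1 hq⟩
    have hzN : Lb φ L jSL * zz φ L δ t' = φ (up (t' / δ)) * Lb φ L jSL := by
      have h1 : (-1 : fixK σ) ≠ 0 := neg_ne_zero.2 one_ne_zero
      have e := scaleLb hc R h1 (up (-t' / δ))
      rw [scHom_up, show ((-1 : fixK σ) : F)⁻¹ * (-t' / δ) = t' / δ by push_cast; rw [inv_neg_one]; ring,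
        ← jSL_sq, Lb_mul] at e
      rw [← e]; simp only [zz]; group
    let X := g1 * g2 * φ jSL * L (dg a ha) * (L (up k') * φ (up (t' / δ)))
    have hX : X ∈ par hc R := mul_mem (mul_mem (mul_mem (mul_mem hg1 hg2) (phi_par hc R _)) (tor_par hc R ha))
      (mul_mem (u0_par hc R _) (phi_par hc R _))
    have key : L jSL * (φ (low s * dg c h * jSL * low s') * L (dg a ha) * qq hc R k t m) =
        X * (Lb φ L (jSL * up m') * φ (low x)) := by
      rw [map_mul, map_mul, map_mul]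
      calc L jSL * (φ (low s) * φ (dg c h) * φ jSL * φ (low s') * L (dg a ha) * qq hc R k t m)
          = L jSL * φ (low s) * φ (dg c h) * φ jSL * (φ (low s') * L (dg a ha)) * qq hc R k t m := by group
        _ = g1 * (L jSL * φ (dg c h)) * φ jSL * (φ (low s') * L (dg a ha)) * qq hc R k t m := by rw [e1]; group
        _ = g1 * g2 * (L jSL * φ jSL) * (φ (low s') * L (dg a ha)) * qq hc R k t m := by rw [e2]; group
        _ = g1 * g2 * φ jSL * (Lb φ L jSL * L (dg a ha)) * (φ (low x) * qq hc R k t m) := by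
          rw [N0_J hc R, hlow]; group
        _ = g1 * g2 * φ jSL * (L (dg a ha) * Lb φ L jSL) * (qq hc R k' t' m' * φ (low x)) := by
          rw [← (R.comm (dg a ha) jSL).eq, hq]
        _ = g1 * g2 * φ jSL * L (dg a ha) * (Lb φ L jSL * L (up k') * zz φ L δ t' * Lb φ L (up m') * φ (low x)) := by
          simp only [qq]; group
        _ = g1 * g2 * φ jSL * L (dg a ha) * (L (up k') * (Lb φ L jSL * zz φ L δ t') * Lb φ L (up m') * φ (low x)) := by
          rw [← (R.comm (up k') jSL).eq]; group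
        _ = _ := by rw [hzN, Lb_mul]; simp only [X]; group
    constructor
    · rw [key]
      have e : φ (low x) * L jSL = L jSL * zz φ L δ (σ x * δ) := by
        rw [← twin hc R (σ x * δ), show -σ (σ x * δ) / δ = x by
          rw [map_mul, hc.invol, R.hδσ]; have := R.hδ; field_simp]
        group
      rw [show X * (Lb φ L (jSL * up m') * φ (low x)) * L jSL =
        X * (Lb φ L (jSL * up m') * (φ (low x) * L jSL)) by group, e]
      refine inS_left hc R hX ?_
      rw [← mul_assoc]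
      exact inS_right hc R (zz_par hc R _) (inS_Lb_N0 hc R _)
    · rw [key]
      have e : φ (low x) * Wd φ L = Wd φ L * φ (up (-σ x)) := by
        have := twist_all hc R (up (-σ x))
        rw [theta_up, map_neg, hc.invol, neg_neg, mul_inv_eq_iff_eq_mul] at this
        exact this.symm
      rw [show X * (Lb φ L (jSL * up m') * φ (low x)) * Wd φ L =
        X * (Lb φ L (jSL * up m') * (φ (low x) * Wd φ L)) by group, e]
      refine inS_left hc R hX ?_
      rw [← mul_assoc]
      refine inS_right hc R (phi_par hc R _) ?_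
      rw [Wd, (R.comm jSL jSL).eq, ← mul_assoc, ← Lb_mul]
      exact inS_Lb_N0 hc R _

/-- The three double cosets fill the group. -/
theorem inS_all (hgen : Subgroup.closure (Set.range φ ∪ Set.range L) = ⊤) (x : P) : InS hc R x := by
  let H := Subgroup.closure ((par hc R : Set P) ∪ {L jSL})
  have hN : L jSL ∈ H := Subgroup.subset_closure (Or.inr rfl)
  have hP : par hc R ≤ H := fun p hp => Subgroup.subset_closure (Or.inl hp)
  have htop : H = ⊤ := by
    rw [eq_top_iff, ← hgen, Subgroup.closure_le]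
    rintro _ (⟨A, rfl⟩ | ⟨z, rfl⟩)
    · exact hP (phi_par hc R A)
    · refine (eq_top_of_up_low (H := H.comap L) (fun k => hP (u0_par hc R k)) (fun k => ?_)).ge
        (Subgroup.mem_top z)
      show L (low k) ∈ H
      rw [show low k = jSL * up (-k) * jSL⁻¹ by rw [jSL_up, neg_neg], map_mul, map_mul, map_inv]
      exact mul_mem (mul_mem hN (hP (u0_par hc R _))) (inv_mem hN)
  have step : ∀ y, InS hc R y → InS hc R (L jSL * y) := by
    rintro y (hy | ⟨p, hp, p', hp', rfl | rfl⟩)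
    · exact Or.inr ⟨1, one_mem _, y, hy, Or.inl (by group)⟩
    · have := inS_right hc R hp' (N0_mid hc R hp).1
      simpa [mul_assoc] using this
    · have := inS_right hc R hp' (N0_mid hc R hp).2
      simpa [mul_assoc] using this
  have hx : x ∈ H := htop ▸ Subgroup.mem_top x
  induction hx using Subgroup.closure_induction_left with
  | one => exact Or.inl (one_mem _)
  | mul_left g hg y _ hy =>
    rcases hg with hg | rfl
    · exact inS_left hc R hg hy
    · exact step y hy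
  | inv_mul_cancel g hg y _ hy =>
    rcases hg with hg | rfl
    · exact inS_left hc R (inv_mem hg) hy
    · have h1 : (-1 : fixK σ) ≠ 0 := neg_ne_zero.2 one_ne_zero
      have := inS_left hc R (inv_mem (tor_par hc R h1)) (step y hy)
      rwa [← jSL_sq, map_mul, _root_.mul_inv_rev, mul_assoc, inv_mul_cancel_left] at this

end CfsgLib.SUPres
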