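import Cfsg.Agent.Lib.KnownB.SUPres.FourCosets

/-!
# Matrices in a hyperbolic basis, and recognition of the four-dimensional group
-/

set_option autoImplicit false
set_option linter.unusedSectionVars false

open Matrix CfsgLib.Perm.Quad.SL2 CfsgLib.SL2Pres CfsgLib.SLPres CfsgLib.Classical

namespace CfsgLib.SUPres

variable {F : Type*} [Field F]

/-- Matrices on two hyperbolic pairs. -/
abbrev M4 (F : Type*) := Matrix (Fin 2 ⊕ Fin 2) (Fin 2 ⊕ Fin 2) F

variable (σ : F →+* F) (δ : F)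

/-- A Levi element. -/
def levM (A : SL F) : M4 F := fromBlocks A.1 0 0 (theta σ A).1

/-- An element of the first rank one subgroup. -/
def l0M (z : SL (fixK σ)) : M4 F :=
  fromBlocks !![(z.1 0 0 : F), 0; 0, 1] !![δ * (z.1 0 1 : F), 0; 0, 0] !![(z.1 1 0 : F) / δ, 0; 0, 0]
    !![(z.1 1 1 : F), 0; 0, 1]

/-- An element of the second rank one subgroup. -/
def l1M (z : SL (fixK σ)) : M4 F :=
  fromBlocks !![1, 0; 0, (z.1 0 0 : F)] !![0, 0; 0, δ * (z.1 0 1 : F)] !![0, 0; 0, (z.1 1 0 : F) / δ]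
    !![1, 0; 0, (z.1 1 1 : F)]

/-- An upper unipotent element. -/
def upB (X : Matrix (Fin 2) (Fin 2) F) : M4 F := fromBlocks 1 X 0 1

/-- The parameter of an element of the radical. -/
def radX (k : fixK σ) (t : F) (m : fixK σ) : Matrix (Fin 2) (Fin 2) F :=
  !![δ * (k : F), t; -σ t, δ * (m : F)]

/-- The hyperbolic form. -/
def hypM : M4 F := fromBlocks 0 1 1 0

/-- The special isometries of the hyperbolic form. -/
def IsUnit4 (g : M4 F) : Prop := (g.map σ)ᵀ * hypM * g = hypM ∧ g.det = 1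

theorem upB_mul (X Y : Matrix (Fin 2) (Fin 2) F) : upB X * upB Y = upB (X + Y) := by
  simp [upB, fromBlocks_multiply, add_comm]

theorem IsUnit4.mul {g h : M4 F} (hg : IsUnit4 σ g) (hh : IsUnit4 σ h) : IsUnit4 σ (g * h) := by
  refine ⟨?_, by rw [det_mul, hg.2, hh.2, one_mul]⟩
  rw [Matrix.map_mul, transpose_mul,
    show (h.map σ)ᵀ * (g.map σ)ᵀ * hypM * (g * h) = (h.map σ)ᵀ * ((g.map σ)ᵀ * hypM * g) * h by
      simp only [Matrix.mul_assoc], hg.1, hh.1]

theorem unit4_blocks {A B C D : Matrix (Fin 2) (Fin 2) F} (h : IsUnit4 σ (fromBlocks A B C D)) :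
    (A.map σ)ᵀ * C + (C.map σ)ᵀ * A = 0 ∧ (A.map σ)ᵀ * D + (C.map σ)ᵀ * B = 1 ∧
      (B.map σ)ᵀ * D + (D.map σ)ᵀ * B = 0 := by
  have e := h.1
  rw [fromBlocks_map, fromBlocks_transpose, hypM, fromBlocks_multiply, fromBlocks_multiply] at e
  simp only [Matrix.mul_zero, Matrix.mul_one, zero_add, add_zero] at e
  rw [fromBlocks_inj] at e
  exact ⟨by rw [add_comm]; exact e.1, by rw [add_comm]; exact e.2.1, by rw [add_comm]; exact e.2.2.2⟩

variable {σ δ} (hc : IsConjugation σ)
include hc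

theorem theta_theta (A : SL F) : theta σ (theta σ A) = A := by
  apply ext2 <;> simp [theta_val, hc.invol]

theorem levM_mem (A : SL F) : IsUnit4 σ (levM σ A) := by
  have hd := det2 A
  refine ⟨?_, ?_⟩
  · rw [levM, fromBlocks_map, fromBlocks_transpose, hypM, fromBlocks_multiply, fromBlocks_multiply]
    have hσ := congrArg σ hd
    simp only [map_sub, map_mul, map_one] at hσ
    congr 1
    all_goals ext i j; fin_cases i <;> fin_cases j <;>
      simp [theta_val, Matrix.mul_apply, hc.invol] <;>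
      first
        | linear_combination hd
        | linear_combination hσ
        | ring
  · have h2 := (theta σ A).2
    rw [levM, det_fromBlocks_zero₁₂, A.2, h2, one_mul]

section
variable {P : Type*} [Group P] {φ : SL F →* P} {L : SL (fixK σ) →* P}
variable [Finite F] {w : F} {hw : w ≠ 0} (R : Four hc φ L w δ hw) (π : P →* M4 F)
variable (hφ : ∀ A, π (φ A) = levM σ A) (hL : ∀ z, π (L z) = l0M σ δ z)
include R hφ hL

theorem pi_Lb (z : SL (fixK σ)) : π (Lb φ L z) = l1M σ δ z := by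
  rw [Lb, ← map_inv φ, map_mul, map_mul, hφ, hφ, hL]
  simp only [levM, l0M, l1M, fromBlocks_multiply]
  congr 1
  all_goals ext i j; fin_cases i <;> fin_cases j <;>
    simp [theta_val, Matrix.mul_apply, jSL_coe, Matrix.SpecialLinearGroup.coe_inv, Matrix.adjugate_fin_two]

theorem pi_zz (t : F) : π (zz φ L δ t) = upB !![0, t; -σ t, 0] := by
  have hδ := R.hδ
  rw [zz, ← Lb_inv, map_mul, map_mul, hφ, pi_Lb hc R π hφ hL, pi_Lb hc R π hφ hL]
  simp only [levM, l1M, upB, fromBlocks_multiply]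
  congr 1
  all_goals ext i j; fin_cases i <;> fin_cases j <;>
    simp [theta_val, Matrix.mul_apply, jSL_coe, up_val, Matrix.SpecialLinearGroup.coe_inv, Matrix.adjugate_fin_two,
      R.hδσ] <;>
    field_simp

theorem pi_qq (k : fixK σ) (t : F) (m : fixK σ) : π (qq hc R k t m) = upB (radX σ δ k t m) := by
  have e0 : π (L (up k)) = upB !![δ * (k : F), 0; 0, 0] := by
    rw [hL, l0M, upB]
    congr 1
    all_goals ext i j; fin_cases i <;> fin_cases j <;> simp [up_val]
  have e1 : π (Lb φ L (up m)) = upB !![0, 0; 0, δ * (m : F)] := by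
    rw [pi_Lb hc R π hφ hL, l1M, upB]
    congr 1
    all_goals ext i j; fin_cases i <;> fin_cases j <;> simp [up_val]
  rw [qq, map_mul, map_mul, e0, e1, pi_zz hc R π hφ hL, upB_mul, upB_mul, radX]
  congr 1
  ext i j; fin_cases i <;> fin_cases j <;> simp

theorem pi_par {p : P} (hp : p ∈ par hc R) : ∃ A B D : Matrix (Fin 2) (Fin 2) F,
    π p = fromBlocks A B 0 D ∧ IsUnit A.det ∧ IsUnit D.det := by
  obtain ⟨A, a, ha, k, t, m, rfl⟩ := par_form hc R hp
  have ha0 : (a : F) ≠ 0 := Subtype.coe_injective.ne ha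
  refine ⟨A.1 * !![(a : F), 0; 0, 1], A.1 * !![(a : F), 0; 0, 1] * radX σ δ k t m,
    (theta σ A).1 * !![(a : F)⁻¹, 0; 0, 1], ?_, ?_, ?_⟩
  · rw [map_mul, map_mul, hφ, hL, pi_qq hc R π hφ hL]
    simp only [levM, l0M, upB, fromBlocks_multiply]
    congr 1
    all_goals ext i j; fin_cases i <;> fin_cases j <;> simp [Matrix.mul_apply, dg_val]
  · rw [det_mul, A.2, one_mul, det_fin_two]; simp [ha0]
  · rw [det_mul, (theta σ A).2, one_mul, det_fin_two]; simp [ha0]

theorem pi_N0 : π (L jSL) = fromBlocks !![0, 0; 0, 1] !![δ, 0; 0, 0] !![-δ⁻¹, 0; 0, 0] !![0, 0; 0, 1] := by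
  rw [hL, l0M]
  congr 1
  all_goals ext i j; fin_cases i <;> fin_cases j <;> simp [jSL_coe, neg_div]

theorem pi_W : π (Wd φ L) = fromBlocks 0 (δ • (1 : Matrix (Fin 2) (Fin 2) F)) (-δ⁻¹ • 1) 0 := by
  rw [Wd, map_mul, pi_Lb hc R π hφ hL, hL]
  simp only [l0M, l1M, fromBlocks_multiply]
  congr 1
  all_goals ext i j; fin_cases i <;> fin_cases j <;> simp [Matrix.mul_apply, jSL_coe, neg_div]

/-- The relations present a subgroup of the special isometries. -/
theorem four_injective (hgen : Subgroup.closure (Set.range φ ∪ Set.range L) = ⊤) {x : P} (hx : π x = 1) :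
    x = 1 := by
  have hδ := R.hδ
  rcases inS_all hc R hgen x with h | ⟨p, hp, p', hp', h⟩
  · obtain ⟨A, a, ha, k, t, m, rfl⟩ := par_form hc R h
    have ha0 : (a : F) ≠ 0 := Subtype.coe_injective.ne ha
    rw [map_mul, map_mul, hφ, hL, pi_qq hc R π hφ hL] at hx
    simp only [levM, l0M, upB, fromBlocks_multiply, ← fromBlocks_one (l := Fin 2) (m := Fin 2)] at hx
    rw [fromBlocks_inj] at hx
    obtain ⟨h11, h12, -, -⟩ := hx
    simp only [Matrix.mul_zero, Matrix.zero_mul, add_zero, zero_add, Matrix.mul_one] at h11 h12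
    have hdz : !![((dg a ha).1 0 0 : F), 0; 0, 1] = !![(a : F), 0; 0, 1] := by simp [dg_val]
    have hB0 : !![δ * ((dg a ha).1 0 1 : F), 0; 0, 0] = 0 := by
      ext i j; fin_cases i <;> fin_cases j <;> simp [dg_val]
    rw [hdz] at h11 h12
    rw [hB0, Matrix.mul_zero, add_zero] at h12
    have hdet := congrArg Matrix.det h11
    rw [det_mul, A.2, one_mul, det_one, det_fin_two] at hdet
    simp at hdet
    have ha1 : a = 1 := hdet
    subst ha1
    have hone : !![((1 : fixK σ) : F), 0; 0, 1] = (1 : Matrix (Fin 2) (Fin 2) F) := by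
      ext i j; fin_cases i <;> fin_cases j <;> simp
    rw [hone, Matrix.mul_one] at h11 h12
    have hA : A = 1 := Subtype.ext h11
    subst hA
    rw [Matrix.SpecialLinearGroup.coe_one, Matrix.one_mul] at h12
    have e00 := congrFun (congrFun h12 0) 0
    have e01 := congrFun (congrFun h12 0) 1
    have e11 := congrFun (congrFun h12 1) 1
    simp [radX, hδ] at e00 e01 e11
    subst e00 e11 e01
    rw [map_one, show dg (1 : fixK σ) ha = 1 by apply ext2 <;> simp [dg_val], map_one, qq_zero]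
    group
  · exfalso
    obtain ⟨A, B, D, ep, -, hD⟩ := pi_par hc R π hφ hL hp
    obtain ⟨A', B', D', ep', hA', -⟩ := pi_par hc R π hφ hL hp'
    obtain ⟨C0, hC0, hz⟩ : ∃ C0 : Matrix (Fin 2) (Fin 2) F, C0 ≠ 0 ∧
        (0 : Matrix (Fin 2) (Fin 2) F) = D * C0 * A' := by
      rcases h with rfl | rfl
      · rw [map_mul, map_mul, ep, ep', pi_N0 hc R π hφ hL] at hx
        simp only [fromBlocks_multiply, ← fromBlocks_one (l := Fin 2) (m := Fin 2)] at hx
        rw [fromBlocks_inj] at hx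
        refine ⟨!![-δ⁻¹, 0; 0, 0], fun e => ?_, ?_⟩
        · simpa [hδ] using congrFun (congrFun e 0) 0
        · simpa using hx.2.2.1.symm
      · rw [map_mul, map_mul, ep, ep', pi_W hc R π hφ hL] at hx
        simp only [fromBlocks_multiply, ← fromBlocks_one (l := Fin 2) (m := Fin 2)] at hx
        rw [fromBlocks_inj] at hx
        refine ⟨-δ⁻¹ • 1, fun e => ?_, ?_⟩
        · simpa [hδ] using congrFun (congrFun e 0) 0
        · simpa using hx.2.2.1.symm
    apply hC0
    have e := congrArg (fun M => D⁻¹ * M * A'⁻¹) hz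
    simp only [Matrix.mul_zero, Matrix.zero_mul] at e
    rw [show D⁻¹ * (D * C0 * A') * A'⁻¹ = (D⁻¹ * D) * C0 * (A' * A'⁻¹) by simp only [Matrix.mul_assoc],
      nonsing_inv_mul _ hD, mul_nonsing_inv _ hA', Matrix.one_mul, Matrix.mul_one] at e
    exact e.symm

theorem parabolic_range {A B D : Matrix (Fin 2) (Fin 2) F} (hg : IsUnit4 σ (fromBlocks A B 0 D)) :
    fromBlocks A B 0 D ∈ Set.range π := by
  obtain ⟨-, h2, h3⟩ := unit4_blocks σ hg
  simp only [Matrix.map_zero _ (map_zero σ), transpose_zero, Matrix.zero_mul, add_zero] at h2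
  have hdet := hg.2
  rw [det_fromBlocks_zero₂₁] at hdet
  have hd2 := congrArg Matrix.det h2
  rw [det_mul, det_transpose, det_one, ← RingHom.mapMatrix_apply, ← RingHom.map_det] at hd2
  have hfix : σ A.det = A.det := mul_right_cancel₀ (right_ne_zero_of_mul_eq_one hdet) (hd2.trans hdet.symm)
  have ha0 : A.det ≠ 0 := left_ne_zero_of_mul_eq_one hdet
  let a : fixK σ := ⟨A.det, hfix⟩
  have ha : a ≠ 0 := fun e => ha0 (congrArg Subtype.val e)
  let A1 : SL F := ⟨A * !![A.det⁻¹, 0; 0, 1], by rw [det_mul, det_fin_two !![A.det⁻¹, 0; 0, 1]]; simp [ha0]⟩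
  have hp : φ A1 * L (dg a ha) ∈ par hc R := mul_mem (phi_par hc R _) (tor_par hc R ha)
  have e1 : π (φ A1 * L (dg a ha)) = fromBlocks A 0 0 ((theta σ A1).1 * !![A.det⁻¹, 0; 0, 1]) := by
    rw [map_mul, hφ, hL]
    simp only [levM, l0M, fromBlocks_multiply]
    congr 1
    all_goals ext i j; fin_cases i <;> fin_cases j <;> simp [A1, a, Matrix.mul_apply, dg_val, ha0]
  have hAu : IsUnit A.det := isUnit_iff_ne_zero.2 ha0
  have hD : D = (theta σ A1).1 * !![A.det⁻¹, 0; 0, 1] := by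
    have key : (A.map σ)ᵀ * ((theta σ A1).1 * !![A.det⁻¹, 0; 0, 1]) = 1 := by
      have hdA : A 0 0 * A 1 1 - A 0 1 * A 1 0 = A.det := (det_fin_two A).symm
      have hσd := congrArg σ hdA
      rw [hfix] at hσd
      simp only [map_sub, map_mul] at hσd
      have hθ : (theta σ A1).1 = !![σ (A 1 1), -σ (A 1 0 * A.det⁻¹); -σ (A 0 1), σ (A 0 0 * A.det⁻¹)] := by
        have hA1 : A1.1 = A * !![A.det⁻¹, 0; 0, 1] := rfl
        rw [theta_val, hA1]
        ext i j; fin_cases i <;> fin_cases j <;> simp [Matrix.mul_apply]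
      rw [hθ]
      ext i j; fin_cases i <;> fin_cases j <;>
        simp [Matrix.mul_apply, hfix] <;> field_simp <;>
        first
          | linear_combination hσd
          | ring
    have hu : IsUnit ((A.map σ)ᵀ).det := by
      rw [det_transpose, ← RingHom.mapMatrix_apply, ← RingHom.map_det, hfix]; exact hAu
    have := congrArg (fun M => ((A.map σ)ᵀ)⁻¹ * M) (h2.trans key.symm)
    simp only [nonsing_inv_mul_cancel_left _ _ hu] at this
    exact this
  set Y := A⁻¹ * B
  have hY : (Y.map σ)ᵀ + Y = 0 := by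
    have eB : B = A * Y := by rw [mul_nonsing_inv_cancel_left _ _ hAu]
    rw [eB, Matrix.map_mul, transpose_mul, Matrix.mul_assoc, h2, Matrix.mul_one] at h3
    have : (D.map σ)ᵀ * A = 1 := by
      have := congrArg (fun M => (M.map σ)ᵀ) h2
      simp only [Matrix.map_mul, transpose_mul, transpose_map, transpose_transpose, map_map,
        Matrix.map_one _ (map_zero σ) (map_one σ), transpose_one] at this
      rw [show (σ ∘ σ : F → F) = id from funext hc.invol, Matrix.map_id] at this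
      exact this
    rw [← Matrix.mul_assoc, this, Matrix.one_mul] at h3
    exact h3
  have y00 := congrFun (congrFun hY 0) 0
  have y01 := congrFun (congrFun hY 1) 0
  have y11 := congrFun (congrFun hY 1) 1
  simp at y00 y01 y11
  have hδ := R.hδ
  have kf : ∀ y, σ y + y = 0 → σ (y / δ) = y / δ := fun y h => by
    rw [map_div₀, R.hδσ, eq_neg_of_add_eq_zero_left h, neg_div_neg_eq]
  refine ⟨φ A1 * L (dg a ha) * qq hc R ⟨_, kf _ y00⟩ (Y 0 1) ⟨_, kf _ y11⟩, ?_⟩
  rw [map_mul, e1, pi_qq hc R π hφ hL, hD, upB, fromBlocks_multiply]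
  simp only [Matrix.mul_zero, Matrix.zero_mul, add_zero, zero_add, Matrix.mul_one]
  congr 1
  rw [show B = A * Y by rw [mul_nonsing_inv_cancel_left _ _ hAu]]
  congr 1
  ext i j; fin_cases i <;> fin_cases j <;> simp [radX, mul_div_cancel₀ _ hδ]
  linear_combination -y01

/-- Every special isometry is a value. -/
theorem four_range {g : M4 F} (hg : IsUnit4 σ g) (hmem : ∀ x, IsUnit4 σ (π x)) : g ∈ Set.range π := by
  have hδ := R.hδ
  have peel : ∀ (x y : P) {g : M4 F}, π x * g * π y ∈ Set.range π → g ∈ Set.range π := by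
    rintro x y g ⟨z, hz⟩
    refine ⟨x⁻¹ * z * y⁻¹, ?_⟩
    rw [map_mul, map_mul, hz, show π x⁻¹ * (π x * g * π y) * π y⁻¹ = (π x⁻¹ * π x) * g * (π y * π y⁻¹) by
      simp only [Matrix.mul_assoc], ← map_mul, ← map_mul, inv_mul_cancel, mul_inv_cancel, map_one,
      Matrix.one_mul, Matrix.mul_one]
  rw [← fromBlocks_toBlocks g] at hg ⊢
  generalize g.toBlocks₁₁ = A, g.toBlocks₁₂ = B, g.toBlocks₂₁ = C, g.toBlocks₂₂ = D at hg ⊢
  clear g
  have qU : ∀ k t m, IsUnit4 σ (upB (radX σ δ k t m)) := fun k t m => pi_qq hc R π hφ hL k t m ▸ hmem _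
  have kf : ∀ y, σ y + y = 0 → σ (y / δ) = y / δ := fun y h => by
    rw [map_div₀, R.hδσ, eq_neg_of_add_eq_zero_left h, neg_div_neg_eq]
  by_cases hC : C = 0
  · subst hC; exact parabolic_range hc R π hφ hL hg
  obtain ⟨h1, -, -⟩ := unit4_blocks σ hg
  by_cases hCd : C.det = 0
  · -- rank one
    obtain ⟨v, hv, hCv⟩ := Matrix.exists_mulVec_eq_zero_iff.2 hCd
    obtain ⟨A2, hA2⟩ : ∃ A2 : SL F, ∀ i, A2.1 i 1 = v i := by
      by_cases h0 : v 0 = 0
      · have h1 : v 1 ≠ 0 := fun e => hv (by ext i; fin_cases i <;> assumption)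
        exact ⟨⟨!![(v 1)⁻¹, 0; 0, v 1], by simp [det_fin_two, h1]⟩, fun i => by fin_cases i <;> simp [h0]⟩
      · exact ⟨⟨!![0, v 0; -(v 0)⁻¹, v 1], by simp [det_fin_two, h0]⟩, fun i => by fin_cases i <;> simp⟩
    have hcol : ∀ i, (C * A2.1) i 1 = 0 := fun i => by
      have := congrFun hCv i
      simpa [Matrix.mul_apply, hA2, Matrix.mulVec, dotProduct] using this
    have hC2 : C * A2.1 ≠ 0 := fun e => hC (by
      have := congrArg (fun M => M * (A2⁻¹).1) e
      rwa [Matrix.zero_mul, Matrix.mul_assoc, ← Matrix.SpecialLinearGroup.coe_mul, mul_inv_cancel,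
        Matrix.SpecialLinearGroup.coe_one, Matrix.mul_one] at this)
    obtain ⟨M, c, hc0, hM0, hM1⟩ : ∃ (M : SL F) (c : F), c ≠ 0 ∧ (M.1 * (C * A2.1)) 0 0 = c ∧
        (M.1 * (C * A2.1)) 1 0 = 0 := by
      by_cases h0 : (C * A2.1) 0 0 = 0
      · have h1 : (C * A2.1) 1 0 ≠ 0 := fun e => hC2 (by
          ext i j; fin_cases i <;> fin_cases j <;> first | assumption | exact hcol _)
        generalize C * A2.1 = U at *
        exact ⟨jSL, _, h1, by simp [Matrix.mul_apply, jSL_coe], by simp [Matrix.mul_apply, jSL_coe, h0]⟩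
      · generalize C * A2.1 = U at *
        exact ⟨low (-(U 1 0) / U 0 0), _, h0, by simp [Matrix.mul_apply, low_val],
          by simp [Matrix.mul_apply, low_val]; field_simp; ring⟩
    refine peel (φ (theta σ M)) (φ A2) ?_
    rw [hφ, hφ]
    simp only [levM, fromBlocks_multiply, Matrix.mul_zero, Matrix.zero_mul, add_zero, zero_add, theta_theta hc]
    have hg' : IsUnit4 σ (levM σ (theta σ M) * fromBlocks A B C D * levM σ A2) :=
      ((levM_mem hc _).mul σ hg).mul σ (levM_mem hc _)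
    simp only [levM, fromBlocks_multiply, Matrix.mul_zero, Matrix.zero_mul, add_zero, zero_add, theta_theta hc]
      at hg'
    have hC' : M.1 * C * A2.1 = !![c, 0; 0, 0] := by
      rw [Matrix.mul_assoc]
      ext i j; fin_cases i <;> fin_cases j
      · simpa using hM0
      · simp [Matrix.mul_apply] at hcol ⊢; simp [hcol]
      · simpa using hM1
      · simp [Matrix.mul_apply] at hcol ⊢; simp [hcol]
    rw [hC'] at hg' ⊢
    generalize (theta σ M).1 * A * A2.1 = A', (theta σ M).1 * B * (theta σ A2).1 = B',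
      M.1 * D * (theta σ A2).1 = D' at hg' ⊢
    obtain ⟨e1, -, -⟩ := unit4_blocks σ hg'
    have hσc : σ c ≠ 0 := (map_ne_zero σ).2 hc0
    have a01 := congrFun (congrFun e1 0) 1
    have a00 := congrFun (congrFun e1 0) 0
    simp [Matrix.mul_apply, hσc] at a01 a00
    have hk : σ (-(A' 0 0) / (c * δ)) = -(A' 0 0) / (c * δ) := by
      rw [map_div₀, map_neg, map_mul, R.hδσ]
      field_simp
      linear_combination a00
    refine peel (L jSL * qq hc R ⟨_, hk⟩ 0 0) 1 ?_
    rw [map_mul, pi_N0 hc R π hφ hL, pi_qq hc R π hφ hL, map_one, Matrix.mul_one]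
    have hu := (((pi_N0 hc R π hφ hL ▸ hmem (L jSL)).mul σ (qU ⟨_, hk⟩ 0 0))).mul σ hg'
    simp only [upB, fromBlocks_multiply] at hu ⊢
    rw [show (!![-δ⁻¹, 0; 0, 0] * (1 : Matrix (Fin 2) (Fin 2) F) + !![0, 0; 0, 1] * 0) * A' +
        (!![-δ⁻¹, 0; 0, 0] * radX σ δ ⟨_, hk⟩ 0 0 + !![0, 0; 0, 1] * 1) * !![c, 0; 0, 0] =
        (0 : Matrix (Fin 2) (Fin 2) F) by
      ext i j; fin_cases i <;> fin_cases j <;> simp [Matrix.mul_apply, Matrix.vecMul, dotProduct, radX, a01] <;> try (field_simp; ring)] at hu ⊢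
    exact parabolic_range hc R π hφ hL hu
  · -- rank two
    have hCu : IsUnit C.det := isUnit_iff_ne_zero.2 hCd
    set X := -(A * C⁻¹) with hX
    have hskew : (X.map σ)ᵀ + X = 0 := by
      have e0 : A = A * C⁻¹ * C := by rw [nonsing_inv_mul_cancel_right _ _ hCu]
      generalize A * C⁻¹ = Z at *
      rw [hX]
      rw [e0, Matrix.map_mul, transpose_mul, Matrix.mul_assoc, ← Matrix.mul_add, ← Matrix.add_mul] at h1
      have hCu' : IsUnit ((C.map σ)ᵀ).det := by
        rw [det_transpose, ← RingHom.mapMatrix_apply, ← RingHom.map_det]; exact hCu.map σ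
      have e1 := congrArg (fun M => ((C.map σ)ᵀ)⁻¹ * M * C⁻¹) h1
      simp only [Matrix.mul_zero, Matrix.zero_mul, nonsing_inv_mul_cancel_left _ _ hCu',
        mul_nonsing_inv_cancel_right _ _ hCu] at e1
      ext i j
      have := congrFun (congrFun e1 i) j
      simp at this ⊢
      linear_combination -this
    have y00 := congrFun (congrFun hskew 0) 0
    have y01 := congrFun (congrFun hskew 1) 0
    have y11 := congrFun (congrFun hskew 1) 1
    simp at y00 y01 y11
    have eX : radX σ δ ⟨_, kf _ y00⟩ (X 0 1) ⟨_, kf _ y11⟩ = X := by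
      ext i j; fin_cases i <;> fin_cases j <;> simp [radX, mul_div_cancel₀ _ hδ]
      linear_combination -y01
    refine peel (Wd φ L * qq hc R ⟨_, kf _ y00⟩ (X 0 1) ⟨_, kf _ y11⟩) 1 ?_
    have hu := ((pi_W hc R π hφ hL ▸ hmem (Wd φ L)).mul σ (eX ▸ qU ⟨_, kf _ y00⟩ (X 0 1) ⟨_, kf _ y11⟩)).mul σ hg
    rw [map_mul, pi_W hc R π hφ hL, pi_qq hc R π hφ hL, eX, map_one, Matrix.mul_one]
    simp only [upB, fromBlocks_multiply] at hu ⊢
    rw [show (-δ⁻¹ • (1 : Matrix (Fin 2) (Fin 2) F) * 1 + 0 * 0) * A + (-δ⁻¹ • 1 * X + 0 * 1) * C =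
        (0 : Matrix (Fin 2) (Fin 2) F) by
      simp [hX, Matrix.smul_mul, Matrix.neg_mul, nonsing_inv_mul_cancel_right _ _ hCu]] at hu ⊢
    exact parabolic_range hc R π hφ hL hu

end

end CfsgLib.SUPres
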