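import Cfsg.Agent.Lib.KnownB.SUPres.FourRel

/-!
# The abelian radical of the parabolic subgroup
-/

set_option autoImplicit false
set_option linter.unusedSectionVars false

open Matrix CfsgLib.Perm.Quad.SL2 CfsgLib.SL2Pres CfsgLib.SLPres CfsgLib.Classical

namespace CfsgLib.SUPres

variable {F : Type*} [Field F] {σ : F →+* F} (hc : IsConjugation σ)
variable {P : Type*} [Group P] {φ : SL F →* P} {L : SL (fixK σ) →* P}
variable [Finite F] {w δ : F} {hw : w ≠ 0} (R : Four hc φ L w δ hw)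
include R

theorem twin (t : F) : (L jSL)⁻¹ * φ (low (-σ t / δ)) * L jSL = zz φ L δ t := by
  have e := twist_all hc R (up (-t / δ))
  rw [theta_up, show -σ (-t / δ) = -σ t / δ by rw [map_div₀, map_neg, R.hδσ]; field_simp] at e
  rw [← e]
  simp only [Wd, zz]
  group

theorem La_z {a : fixK σ} (ha : a ≠ 0) (t : F) :
    L (dg a ha) * zz φ L δ t * (L (dg a ha))⁻¹ = zz φ L δ (a * t) := by
  have hcm := R.comm (dg a ha) jSL
  have e := scale_all_up hc R ha (up (-t / δ))
  rw [scHom_up, show (a : F) * (-t / δ) = -(a * t) / δ by ring] at e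
  calc L (dg a ha) * zz φ L δ t * (L (dg a ha))⁻¹
      = (L (dg a ha) * Lb φ L jSL) * φ (up (-t / δ)) * (L (dg a ha) * Lb φ L jSL)⁻¹ := by
        simp only [zz]; group
    _ = Lb φ L jSL * (L (dg a ha) * φ (up (-t / δ)) * (L (dg a ha))⁻¹) * (Lb φ L jSL)⁻¹ := by
      rw [hcm.eq]; group
    _ = _ := by rw [e]; rfl

theorem Lb_z {a : fixK σ} (ha : a ≠ 0) (t : F) :
    Lb φ L (dg a ha) * zz φ L δ t * (Lb φ L (dg a ha))⁻¹ = zz φ L δ (a * t) := by
  have e := scaleLb hc R (inv_ne_zero ha) (up (-t / δ))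
  rw [scHom_up, show ((a⁻¹ : fixK σ) : F)⁻¹ * (-t / δ) = -(a * t) / δ by push_cast; rw [inv_inv]; ring] at e
  have ej : (dg a ha : SL (fixK σ)) * jSL = jSL * dg a⁻¹ (inv_ne_zero ha) := by
    apply ext2 <;> simp [mul_apply2, dg_val, jSL_coe]
  calc Lb φ L (dg a ha) * zz φ L δ t * (Lb φ L (dg a ha))⁻¹
      = Lb φ L (dg a ha * jSL) * φ (up (-t / δ)) * (Lb φ L (dg a ha * jSL))⁻¹ := by
        simp only [zz, Lb_mul]; group
    _ = Lb φ L jSL * (Lb φ L (dg a⁻¹ (inv_ne_zero ha)) * φ (up (-t / δ)) * (Lb φ L (dg a⁻¹ (inv_ne_zero ha)))⁻¹) *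
        (Lb φ L jSL)⁻¹ := by rw [ej, Lb_mul]; group
    _ = _ := by rw [e]; rfl

theorem h_z {c : F} (h : c ≠ 0) (t : F) :
    φ (dg c h) * zz φ L δ t * (φ (dg c h))⁻¹ = zz φ L δ (c / σ c * t) := by
  have e1 := conjLb hc R h jSL
  rw [scHom_jSL, Lb_mul] at e1
  have hσ0 : σ c ≠ 0 := (map_ne_zero σ).2 h
  calc φ (dg c h) * zz φ L δ t * (φ (dg c h))⁻¹
      = (φ (dg c h) * Lb φ L jSL * (φ (dg c h))⁻¹) * (φ (dg c h) * φ (up (-t / δ)) * (φ (dg c h))⁻¹) *
          (φ (dg c h) * Lb φ L jSL * (φ (dg c h))⁻¹)⁻¹ := by simp only [zz]; group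
    _ = Lb φ L (dg (nK hc c)⁻¹ (inv_ne_zero (nK_ne hc h))) * zz φ L δ (c ^ 2 * t) *
          (Lb φ L (dg (nK hc c)⁻¹ (inv_ne_zero (nK_ne hc h))))⁻¹ := by
      rw [e1, ← map_inv φ, ← map_mul, ← map_mul, dg_conj_up, zz,
        show -(c ^ 2 * t) / δ = c ^ 2 * (-t / δ) by ring]
      group
    _ = _ := by
      rw [Lb_z hc R]
      congr 1
      push_cast
      rw [nK_val]
      field_simp

theorem J_z (t : F) : φ jSL * zz φ L δ t * (φ jSL)⁻¹ = zz φ L δ (σ t) := by
  have h1 : (-1 : fixK σ) ≠ 0 := neg_ne_zero.2 one_ne_zero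
  have e2 := twin hc R (-σ t)
  rw [map_neg, hc.invol, neg_neg] at e2
  have e3 := La_z hc R h1 (-σ t)
  rw [← jSL_sq, show ((-1 : fixK σ) : F) * -σ t = σ t by push_cast; ring, ← e2, map_mul] at e3
  rw [← e3]
  calc φ jSL * zz φ L δ t * (φ jSL)⁻¹
      = (φ jSL * Lb φ L jSL * (φ jSL)⁻¹) * (φ jSL * φ (up (-t / δ)) * (φ jSL)⁻¹) *
          (φ jSL * Lb φ L jSL * (φ jSL)⁻¹)⁻¹ := by simp only [zz]; group
    _ = L jSL * φ (low (t / δ)) * (L jSL)⁻¹ := by
      rw [J_Lb hc R, ← map_inv φ, ← map_mul, ← map_mul, jSL_up,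
        show -(-t / δ) = t / δ by ring]
    _ = _ := by group

theorem u0_z (k : fixK σ) (t : F) : Commute (L (up k)) (zz φ L δ t) :=
  ((R.comm (up k) jSL).mul_right (stab_all hc R k _)).mul_right (R.comm (up k) jSL).inv_right

theorem J_u1 (k : fixK σ) : φ jSL * Lb φ L (up k) * (φ jSL)⁻¹ = L (up k) := J_Lb hc R _

theorem u1_z (k : fixK σ) (t : F) : Commute (Lb φ L (up k)) (zz φ L δ t) := by
  have h := (Commute.conj_iff (φ jSL)).2 (u0_z hc R k (σ t))
  rwa [J_z hc R, hc.invol] at h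

/-- An element of the radical. -/
noncomputable def qq (_R : Four hc φ L w δ hw) (k : fixK σ) (t : F) (m : fixK σ) : P :=
  L (up k) * zz φ L δ t * Lb φ L (up m)

theorem qq_mul (k k' : fixK σ) (t t' : F) (m m' : fixK σ) :
    qq hc R k t m * qq hc R k' t' m' = qq hc R (k + k') (t + t') (m + m') := by
  simp only [qq]
  rw [← up_add, map_mul, ← up_add, Lb_mul, ← zz_add]
  calc L (up k) * zz φ L δ t * Lb φ L (up m) * (L (up k') * zz φ L δ t' * Lb φ L (up m'))
      = L (up k) * zz φ L δ t * (Lb φ L (up m) * L (up k')) * zz φ L δ t' * Lb φ L (up m') := by group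
    _ = L (up k) * (zz φ L δ t * L (up k')) * (Lb φ L (up m) * zz φ L δ t') * Lb φ L (up m') := by
      rw [← (R.comm (up k') (up m)).eq]; group
    _ = _ := by rw [← (u0_z hc R k' t).eq, (u1_z hc R m t').eq]; group

theorem qq_zero : qq hc R 0 0 0 = 1 := by simp [qq, zz_zero, Lb_one, CfsgLib.Perm.Quad.SL2.up_zero]

theorem qq_inv (k : fixK σ) (t : F) (m : fixK σ) : (qq hc R k t m)⁻¹ = qq hc R (-k) (-t) (-m) :=
  inv_eq_of_mul_eq_one_right (by rw [qq_mul]; simp [qq_zero])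

theorem u0_qq (k : fixK σ) : L (up k) = qq hc R k 0 0 := by
  simp [qq, zz_zero, Lb_one, CfsgLib.Perm.Quad.SL2.up_zero]

theorem zz_qq (t : F) : zz φ L δ t = qq hc R 0 t 0 := by
  simp [qq, Lb_one, CfsgLib.Perm.Quad.SL2.up_zero]

theorem u1_qq (m : fixK σ) : Lb φ L (up m) = qq hc R 0 0 m := by
  simp [qq, zz_zero, CfsgLib.Perm.Quad.SL2.up_zero]

theorem conj_qq (g : P) {k k' m m' : fixK σ} {t t' : F} (h0 : g * L (up k) * g⁻¹ = L (up k'))
    (h1 : g * zz φ L δ t * g⁻¹ = zz φ L δ t') (h2 : g * Lb φ L (up m) * g⁻¹ = Lb φ L (up m')) :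
    g * qq hc R k t m * g⁻¹ = qq hc R k' t' m' := by
  simp only [qq]
  rw [← h0, ← h1, ← h2]
  group

theorem J_qq (k : fixK σ) (t : F) (m : fixK σ) : φ jSL * qq hc R k t m * (φ jSL)⁻¹ = qq hc R m (σ t) k := by
  rw [show qq hc R k t m = qq hc R k 0 0 * qq hc R 0 t 0 * qq hc R 0 0 m by simp [qq_mul],
    ← u0_qq, ← zz_qq, ← u1_qq]
  calc φ jSL * (L (up k) * zz φ L δ t * Lb φ L (up m)) * (φ jSL)⁻¹
      = Lb φ L (up k) * (φ jSL * zz φ L δ t * (φ jSL)⁻¹) * (φ jSL * Lb φ L (up m) * (φ jSL)⁻¹) := by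
        simp only [Lb]; group
    _ = _ := by rw [J_z hc R, J_u1 hc R, u1_qq hc R, zz_qq hc R, u0_qq hc R, qq_mul, qq_mul]; simp

theorem La_qq {a : fixK σ} (ha : a ≠ 0) (k : fixK σ) (t : F) (m : fixK σ) :
    L (dg a ha) * qq hc R k t m * (L (dg a ha))⁻¹ = qq hc R (a ^ 2 * k) (a * t) m := by
  refine conj_qq hc R _ ?_ (La_z hc R ha t) ?_
  · rw [← map_inv, ← map_mul, ← map_mul, dg_conj_up]
  · rw [(R.comm _ _).eq, mul_inv_cancel_right]

theorem Base_scale {s : F} {k : fixK σ} (h : Base hc φ L δ s k) (g : P) {s' t' : F} {k' m' : fixK σ}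
    (h0 : g * φ (low s) * g⁻¹ = φ (low s')) (h1 : g * L (up k) * g⁻¹ = L (up k'))
    (h2 : g * zz φ L δ (δ * k * σ s) * g⁻¹ = zz φ L δ t')
    (h3 : g * Lb φ L (up (k * nK hc s)) * g⁻¹ = Lb φ L (up m'))
    (ht : t' = δ * k' * σ s') (hm : m' = k' * nK hc s') : Base hc φ L δ s' k' := by
  subst ht hm
  unfold Base at h ⊢
  rw [← h0, ← h1, ← h2, ← h3]
  have := congrArg (fun x => g * x * g⁻¹) h
  refine Eq.trans ?_ (this.trans ?_) <;> group

theorem Base_h {s : F} {k : fixK σ} (h : Base hc φ L δ s k) {c : F} (hc0 : c ≠ 0) :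
    Base hc φ L δ (c⁻¹ ^ 2 * s) (nK hc c * k) := by
  have hσ0 : σ c ≠ 0 := (map_ne_zero σ).2 hc0
  refine Base_scale hc R h (φ (dg c hc0)) ?_ ?_ (h_z hc R hc0 _) ?_ ?_ (m' := (nK hc c)⁻¹ * (k * nK hc s)) ?_
  · rw [← map_inv, ← map_mul, ← map_mul, dg_conj_low]
  · rw [conjL hc R hc0, scHom_up]
  · rw [conjLb hc R hc0, scHom_up]
  · rw [map_mul, map_pow, map_inv₀]; push_cast; rw [nK_val]; field_simp
  · apply Subtype.ext
    push_cast
    simp only [nK_val, map_mul, map_pow, map_inv₀]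
    field_simp

theorem Base_L {s : F} {k : fixK σ} (h : Base hc φ L δ s k) {a : fixK σ} (ha : a ≠ 0) :
    Base hc φ L δ ((a : F)⁻¹ * s) (a ^ 2 * k) := by
  have ha0 : (a : F) ≠ 0 := Subtype.coe_injective.ne ha
  refine Base_scale hc R h (L (dg a ha)) ?_ ?_ (La_z hc R ha _) ?_ ?_ (m' := k * nK hc s) ?_
  · rw [scale_all_up hc R ha, scHom_low]
  · rw [← map_inv, ← map_mul, ← map_mul, dg_conj_up]
  · rw [(R.comm _ _).eq, mul_inv_cancel_right]
  · rw [map_mul, map_inv₀, fixK_spec a]; push_cast; field_simp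
  · apply Subtype.ext
    push_cast
    simp only [nK_val, map_mul, map_inv₀, fixK_spec a]
    field_simp

theorem Base_Lb {s : F} {k : fixK σ} (h : Base hc φ L δ s k) {a : fixK σ} (ha : a ≠ 0) :
    Base hc φ L δ ((a : F) * s) k := by
  refine Base_scale hc R h (Lb φ L (dg a ha)) ?_ ?_ (Lb_z hc R ha _) ?_ ?_ (m' := a ^ 2 * (k * nK hc s)) ?_
  · rw [scaleLb hc R ha, scHom_low, inv_inv]
  · rw [← (R.comm _ _).eq, mul_inv_cancel_right]
  · rw [← Lb_inv, ← Lb_mul, ← Lb_mul, dg_conj_up]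
  · rw [map_mul, fixK_spec a]; ring
  · apply Subtype.ext
    push_cast
    simp only [nK_val, map_mul, fixK_spec a]
    ring

theorem Base_iff (s : F) (k : fixK σ) :
    Base hc φ L δ s k ↔ φ (low s) * L (up k) * (φ (low s))⁻¹ = qq hc R k (δ * k * σ s) (k * nK hc s) := Iff.rfl

theorem Base_zero (k : fixK σ) : Base hc φ L δ 0 k := by
  rw [Base_iff hc R, CfsgLib.Perm.Quad.SL2.low_zero, map_one, map_zero, mul_zero,
    show k * nK hc (0 : F) = 0 from Subtype.ext (by simp [nK_val]), ← u0_qq]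
  group

/-- The set of parameters for which the base relation holds. -/
def baseSet (R : Four hc φ L w δ hw) (s : F) : AddSubgroup (fixK σ) where
  carrier := {k | Base hc φ L δ s k}
  zero_mem' := by
    show Base hc φ L δ s 0
    rw [Base_iff hc R, CfsgLib.Perm.Quad.SL2.up_zero, map_one]
    simp [qq_zero]
  add_mem' {a b} ha hb := by
    show Base hc φ L δ s (a + b)
    change Base hc φ L δ s a at ha
    change Base hc φ L δ s b at hb
    rw [Base_iff hc R] at ha hb ⊢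
    rw [← up_add, map_mul, show φ (low s) * (L (up a) * L (up b)) * (φ (low s))⁻¹ =
      (φ (low s) * L (up a) * (φ (low s))⁻¹) * (φ (low s) * L (up b) * (φ (low s))⁻¹) by group, ha, hb, qq_mul]
    push_cast
    congr 1 <;> ring
  neg_mem' {a} ha := by
    show Base hc φ L δ s (-a)
    change Base hc φ L δ s a at ha
    rw [Base_iff hc R] at ha ⊢
    rw [← up_inv, map_inv, show φ (low s) * (L (up a))⁻¹ * (φ (low s))⁻¹ =
      (φ (low s) * L (up a) * (φ (low s))⁻¹)⁻¹ by group, ha, qq_inv]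
    push_cast
    congr 1 <;> ring

theorem Base_square {b : F} (h : Base hc φ L δ b 1) {d : F} (hd : d ≠ 0) (k : fixK σ) :
    Base hc φ L δ (d ^ 2 * b) k := by
  have hN := nK_ne hc hd
  let S : AddSubgroup (fixK σ) := (baseSet hc R (d ^ 2 * b)).comap (AddMonoidHom.mulLeft (nK hc d⁻¹))
  have : k * nK hc d ∈ S := mem_of_squares S (fun c hc0 => by
    show Base hc φ L δ (d ^ 2 * b) (nK hc d⁻¹ * c ^ 2)
    have hcF : (c : F) ≠ 0 := Subtype.coe_injective.ne hc0
    have := Base_Lb hc R (Base_L hc R (Base_h hc R h (inv_ne_zero hd)) hc0) hc0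
    rwa [← mul_assoc (c : F), mul_inv_cancel₀ hcF, one_mul, inv_inv, mul_one, mul_comm (c ^ 2)] at this) _
  show k ∈ baseSet hc R (d ^ 2 * b)
  have e : nK hc d⁻¹ * (k * nK hc d) = k := Subtype.ext (by
    have hσ0 : σ d ≠ 0 := (map_ne_zero σ).2 hd
    simp [nK_val]; field_simp)
  rw [← e]
  exact this

/-- The action of lower root elements on the middle root subgroup. -/
def Zf (_R : Four hc φ L w δ hw) (s t : F) : Prop :=
  φ (low s) * zz φ L δ t * (φ (low s))⁻¹ = qq hc _R 0 t (tK hc (s * t / δ))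

theorem low_u1 (s : F) (m : fixK σ) : φ (low s) * Lb φ L (up m) * (φ (low s))⁻¹ = Lb φ L (up m) := by
  rw [← (stab_low hc R m s).eq, mul_inv_cancel_right]

theorem Zf_of_Base {s s' : F} {k : fixK σ} (h : Base hc φ L δ s k) (h' : Base hc φ L δ s' k)
    (hs : Base hc φ L δ (s' + s) k) : Zf hc R s' (δ * k * σ s) := by
  rw [Base_iff hc R] at h h' hs
  rw [← low_add, map_mul, show φ (low s') * φ (low s) * L (up k) * (φ (low s') * φ (low s))⁻¹ =
    φ (low s') * (φ (low s) * L (up k) * (φ (low s))⁻¹) * (φ (low s'))⁻¹ by group, h] at hs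
  have e : φ (low s') * qq hc R k (δ * k * σ s) (k * nK hc s) * (φ (low s'))⁻¹ =
      qq hc R k (δ * k * σ s') (k * nK hc s') * (φ (low s') * zz φ L δ (δ * k * σ s) * (φ (low s'))⁻¹) *
        Lb φ L (up (k * nK hc s)) := by
    rw [show φ (low s') * qq hc R k (δ * k * σ s) (k * nK hc s) * (φ (low s'))⁻¹ =
      (φ (low s') * L (up k) * (φ (low s'))⁻¹) * (φ (low s') * zz φ L δ (δ * k * σ s) * (φ (low s'))⁻¹) *
        (φ (low s') * Lb φ L (up (k * nK hc s)) * (φ (low s'))⁻¹) by simp only [qq]; group, h', low_u1 hc R]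
  rw [e, u1_qq hc R, mul_assoc, ← eq_inv_mul_iff_mul_eq, ← eq_mul_inv_iff_mul_eq, qq_inv, qq_inv, qq_mul, qq_mul]
    at hs
  unfold Zf
  rw [hs]
  congr 1
  · ring
  · rw [map_add]; ring
  · refine Subtype.ext ?_
    push_cast
    simp only [nK_val, tK_val, map_add, map_mul, map_div₀, R.hδσ, fixK_spec k, hc.invol]
    have := R.hδ
    field_simp
    ring

/-- The parameters on which the middle formula holds. -/
def zfSet (R : Four hc φ L w δ hw) (s : F) : AddSubgroup F where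
  carrier := {t | Zf hc R s t}
  zero_mem' := by
    show Zf hc R s 0
    unfold Zf
    rw [zz_zero, show tK hc (s * 0 / δ) = 0 from Subtype.ext (by simp [tK_val]), qq_zero]
    group
  add_mem' {a b} ha hb := by
    show Zf hc R s (a + b)
    change Zf hc R s a at ha
    change Zf hc R s b at hb
    unfold Zf at ha hb ⊢
    rw [← zz_add, show φ (low s) * (zz φ L δ a * zz φ L δ b) * (φ (low s))⁻¹ =
      (φ (low s) * zz φ L δ a * (φ (low s))⁻¹) * (φ (low s) * zz φ L δ b * (φ (low s))⁻¹) by group, ha, hb, qq_mul,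
      ← tK_add]
    congr 1
    · ring
    · ring_nf
  neg_mem' {a} ha := by
    show Zf hc R s (-a)
    change Zf hc R s a at ha
    unfold Zf at ha ⊢
    rw [zz_neg, show φ (low s) * (zz φ L δ a)⁻¹ * (φ (low s))⁻¹ = (φ (low s) * zz φ L δ a * (φ (low s))⁻¹)⁻¹ by group,
      ha, qq_inv]
    refine congrArg₂ (fun x y => qq hc R x (-a) y) neg_zero (Subtype.ext ?_)
    push_cast
    simp only [tK_val]
    simp [map_neg, neg_div]
    ring

theorem Base_reach {b x : F} (hb : b ≠ 0) (h : Base hc φ L δ b 1) (hx : IsSquare x ∨ IsSquare (x / b)) (k : fixK σ) :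
    Base hc φ L δ x k := by
  by_cases hx0 : x = 0
  · rw [hx0]; exact Base_zero hc R k
  rcases hx with hx | hx
  · obtain ⟨d, rfl⟩ := hx.exists_sq
    simpa using Base_square hc R R.base (fun e => hx0 (by simp [e])) k (d := d)
  · obtain ⟨d, hd⟩ := hx.exists_sq
    rw [div_eq_iff hb] at hd
    subst hd
    exact Base_square hc R h (fun e => hx0 (by simp [e])) k

theorem Zf_all (s t : F) : Zf hc R s t := by
  classical
  obtain ⟨b, x, hb0, hb, hx, hsx, hsx1⟩ := R.extra
  have B1 : ∀ k, Base hc φ L δ 1 k := fun k => by simpa using Base_square hc R R.base one_ne_zero k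
  have Bx : ∀ k, Base hc φ L δ x k := Base_reach hc R hb0 hb hsx
  have Bx1 : ∀ k, Base hc φ L δ (1 + x) k := Base_reach hc R hb0 hb hsx1
  have B2 : ∀ k, Base hc φ L δ (1 + 1) k := fun k => by
    by_cases h2 : (2 : fixK σ) = 0
    · have : (1 : F) + 1 = 0 := by
        rw [one_add_one_eq_two]
        exact congrArg Subtype.val h2
      rw [this]; exact Base_zero hc R k
    · have := Base_Lb hc R (B1 k) h2
      rwa [mul_one, show ((2 : fixK σ) : F) = 1 + 1 by rw [one_add_one_eq_two]; rfl] at this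
  have z1 : ∀ t, Zf hc R 1 t := fun t => by
    have hne : σ x - x ≠ 0 := sub_ne_zero.2 hx
    set y := t / δ with hy
    let k2 : fixK σ := ⟨(y - σ y) / (σ x - x), mem_fixK.2 <| by
      rw [map_div₀, map_sub, map_sub, hc.invol, hc.invol, ← neg_sub, ← neg_sub (σ x), neg_div_neg_eq]⟩
    let k1 : fixK σ := ⟨y - k2 * σ x, mem_fixK.2 <| by
      rw [map_sub, map_mul, fixK_spec k2, hc.invol]
      have : (k2 : F) * (σ x - x) = y - σ y := div_mul_cancel₀ _ hne
      linear_combination this⟩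
    have e1 : δ * (k1 : F) * σ 1 ∈ zfSet hc R 1 := Zf_of_Base hc R (B1 k1) (B1 k1) (B2 k1)
    have e2 : δ * (k2 : F) * σ x ∈ zfSet hc R 1 := Zf_of_Base hc R (Bx k2) (B1 k2) (Bx1 k2)
    have := (zfSet hc R 1).add_mem e1 e2
    rwa [show δ * (k1 : F) * σ 1 + δ * (k2 : F) * σ x = t by
      rw [map_one]; show δ * (y - k2 * σ x) * 1 + _ = t
      rw [hy]; have := R.hδ; field_simp; ring] at this
  let S : AddSubgroup F :=
    { carrier := {s | ∀ t, Zf hc R s t}
      zero_mem' := fun t => by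
        show _ = _
        rw [CfsgLib.Perm.Quad.SL2.low_zero, map_one, show tK hc (0 * t / δ) = 0 from Subtype.ext (by simp [tK_val]),
          ← zz_qq]
        group
      add_mem' := fun {a b} ha hb t => by
        unfold Zf
        have e : φ (low (a + b)) * zz φ L δ t * (φ (low (a + b)))⁻¹ =
            φ (low a) * (φ (low b) * zz φ L δ t * (φ (low b))⁻¹) * (φ (low a))⁻¹ := by
          rw [← low_add, map_mul]; group
        rw [e, hb t, show φ (low a) * qq hc R 0 t (tK hc (b * t / δ)) * (φ (low a))⁻¹ =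
          (φ (low a) * zz φ L δ t * (φ (low a))⁻¹) *
            (φ (low a) * Lb φ L (up (tK hc (b * t / δ))) * (φ (low a))⁻¹) by
          simp only [qq, CfsgLib.Perm.Quad.SL2.up_zero, map_one]; group, ha t, low_u1 hc R, u1_qq hc R, qq_mul,
          ← tK_add]
        congr 1
        · simp
        · simp
        · ring_nf
      neg_mem' := fun {a} ha t => by
        unfold Zf
        rw [← low_inv, map_inv, inv_inv]
        have e := ha t
        unfold Zf at e
        rw [mul_inv_eq_iff_eq_mul] at e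
        rw [mul_assoc, inv_mul_eq_iff_eq_mul]
        have h2 := low_u1 hc R a (tK hc (-a * t / δ))
        rw [mul_inv_eq_iff_eq_mul] at h2
        rw [show qq hc R 0 t (tK hc (-a * t / δ)) = zz φ L δ t * Lb φ L (up (tK hc (-a * t / δ))) by
          simp [qq, CfsgLib.Perm.Quad.SL2.up_zero], ← mul_assoc, e, mul_assoc, h2, ← mul_assoc, u1_qq hc R, qq_mul,
          show tK hc (a * t / δ) + tK hc (-a * t / δ) = 0 from Subtype.ext (by simp [tK_val]; ring), add_zero,
          add_zero, ← zz_qq] }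
  refine mem_of_squares S (fun c hc0 t => ?_) s t
  have hσ0 : σ c ≠ 0 := (map_ne_zero σ).2 hc0
  have hci : c⁻¹ ≠ 0 := inv_ne_zero hc0
  have e := congrArg (fun y => φ (dg c⁻¹ hci) * y * (φ (dg c⁻¹ hci))⁻¹) (z1 (c / σ c * t))
  have el : φ (low (c ^ 2)) = φ (dg c⁻¹ hci) * φ (low 1) * (φ (dg c⁻¹ hci))⁻¹ := by
    rw [← map_inv, ← map_mul, ← map_mul, dg_conj_low, inv_inv, mul_one]
  have ez : zz φ L δ t = φ (dg c⁻¹ hci) * zz φ L δ (c / σ c * t) * (φ (dg c⁻¹ hci))⁻¹ := by
    rw [h_z hc R hci, map_inv₀]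
    congr 1
    field_simp
  unfold Zf
  refine Eq.trans ?_ (e.trans ?_)
  · rw [el, ez]; group
  · refine conj_qq hc R _ ?_ ?_ ?_
    · simp [CfsgLib.Perm.Quad.SL2.up_zero]
    · exact ez.symm
    · rw [conjLb hc R hci, scHom_up]
      congr 2
      refine Subtype.ext ?_
      push_cast
      simp only [nK_val, tK_val, map_mul, map_div₀, map_inv₀, map_pow, map_one, R.hδσ, hc.invol]
      have := R.hδ
      field_simp

theorem Base_all (s : F) (k : fixK σ) : Base hc φ L δ s k := by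
  let S : AddSubgroup F :=
    { carrier := {s | ∀ k, Base hc φ L δ s k}
      zero_mem' := Base_zero hc R
      add_mem' := fun {a b} ha hb k => by
        rw [Base_iff hc R]
        have h1 := (Base_iff hc R b k).1 (hb k)
        have h2 := (Base_iff hc R a k).1 (ha k)
        rw [← low_add, map_mul, show φ (low a) * φ (low b) * L (up k) * (φ (low a) * φ (low b))⁻¹ =
          φ (low a) * (φ (low b) * L (up k) * (φ (low b))⁻¹) * (φ (low a))⁻¹ by group, h1,
          show φ (low a) * qq hc R k (δ * k * σ b) (k * nK hc b) * (φ (low a))⁻¹ =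
            (φ (low a) * L (up k) * (φ (low a))⁻¹) * (φ (low a) * zz φ L δ (δ * k * σ b) * (φ (low a))⁻¹) *
              (φ (low a) * Lb φ L (up (k * nK hc b)) * (φ (low a))⁻¹) by simp only [qq]; group,
          h2, Zf_all hc R, low_u1 hc R, u1_qq hc R, qq_mul, qq_mul]
        congr 1
        · simp
        · rw [map_add]; ring
        · refine Subtype.ext ?_
          push_cast
          simp only [nK_val, tK_val, map_add, map_mul, map_div₀, R.hδσ, fixK_spec k, hc.invol]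
          have := R.hδ
          field_simp
          ring
      neg_mem' := fun {a} ha k => by
        have h1 : (-1 : fixK σ) ≠ 0 := neg_ne_zero.2 one_ne_zero
        have := Base_Lb hc R (ha k) h1
        simpa using this }
  exact mem_of_squares S (fun c hc0 k => by simpa using Base_square hc R R.base hc0 k) s k

theorem low_qq (s : F) (k : fixK σ) (t : F) (m : fixK σ) :
    φ (low s) * qq hc R k t m * (φ (low s))⁻¹ =
      qq hc R k (δ * k * σ s + t) (k * nK hc s + tK hc (s * t / δ) + m) := by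
  rw [show φ (low s) * qq hc R k t m * (φ (low s))⁻¹ = (φ (low s) * L (up k) * (φ (low s))⁻¹) *
      (φ (low s) * zz φ L δ t * (φ (low s))⁻¹) * (φ (low s) * Lb φ L (up m) * (φ (low s))⁻¹) by
    simp only [qq]; group, (Base_iff hc R s k).1 (Base_all hc R s k), Zf_all hc R, low_u1 hc R, u1_qq hc R, qq_mul,
    qq_mul]
  simp

/-- The radical. -/
def rad (R : Four hc φ L w δ hw) : Subgroup P where
  carrier := {p | ∃ k t m, p = qq hc R k t m}
  one_mem' := ⟨0, 0, 0, (qq_zero hc R).symm⟩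
  mul_mem' := by
    rintro _ _ ⟨k, t, m, rfl⟩ ⟨k', t', m', rfl⟩
    exact ⟨_, _, _, qq_mul hc R k k' t t' m m'⟩
  inv_mem' := by
    rintro _ ⟨k, t, m, rfl⟩
    exact ⟨_, _, _, qq_inv hc R k t m⟩

theorem rad_conj (A : SL F) {p : P} (hp : p ∈ rad hc R) : φ A * p * (φ A)⁻¹ ∈ rad hc R := by
  have hlow : ∀ s, ∀ p ∈ rad hc R, φ (low s) * p * (φ (low s))⁻¹ ∈ rad hc R := by
    rintro s _ ⟨k, t, m, rfl⟩
    exact ⟨_, _, _, low_qq hc R s k t m⟩
  have hJ : ∀ p ∈ rad hc R, φ jSL * p * (φ jSL)⁻¹ ∈ rad hc R := by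
    rintro _ ⟨k, t, m, rfl⟩
    exact ⟨_, _, _, J_qq hc R k t m⟩
  have hJi : ∀ p ∈ rad hc R, (φ jSL)⁻¹ * p * φ jSL ∈ rad hc R := by
    rintro _ ⟨k, t, m, rfl⟩
    refine ⟨m, σ t, k, ?_⟩
    have := J_qq hc R m (σ t) k
    rw [hc.invol] at this
    rw [← this]; group
  let H : Subgroup (SL F) :=
    { carrier := {A | (∀ p ∈ rad hc R, φ A * p * (φ A)⁻¹ ∈ rad hc R) ∧
        ∀ p ∈ rad hc R, (φ A)⁻¹ * p * φ A ∈ rad hc R}
      one_mem' := ⟨fun p hp => by simpa using hp, fun p hp => by simpa using hp⟩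
      mul_mem' := fun {A B} hA hB => ⟨fun p hp => by
          have := hA.1 _ (hB.1 p hp)
          simpa [map_mul, mul_assoc] using this, fun p hp => by
          have := hB.2 _ (hA.2 p hp)
          simpa [map_mul, mul_assoc] using this⟩
      inv_mem' := fun {A} hA => ⟨fun p hp => by simpa [map_inv] using hA.2 p hp,
        fun p hp => by simpa [map_inv] using hA.1 p hp⟩ }
  have hlH : ∀ s, low s ∈ H := fun s => ⟨hlow s, fun p hp => by
    have := hlow (-s) p hp
    rwa [← low_inv, map_inv, inv_inv] at this⟩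
  have hjH : jSL ∈ H := ⟨hJ, hJi⟩
  have htop : H = ⊤ := eq_top_of_up_low (fun x => by
    have := mul_mem (mul_mem hjH (hlH (-x))) (inv_mem hjH)
    rwa [jSL_low, neg_neg] at this) hlH
  exact (htop.ge (Subgroup.mem_top A)).1 p hp

end CfsgLib.SUPres
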