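import Cfsg.Agent.Lib.KnownB.SUPres.FourModel
import Cfsg.Agent.Lib.KnownB.SUPres.Basic

/-!
# The relations hold in the four-dimensional special unitary group
-/

set_option autoImplicit false
set_option linter.unusedSectionVars false

open Matrix CfsgLib.Perm.Quad.SL2 CfsgLib.SL2Pres CfsgLib.SLPres CfsgLib.Classical

namespace CfsgLib.SUPres

variable {F : Type*} [Field F]

/-- The coordinates as two hyperbolic pairs. -/
def pairEquiv : Fin 2 ⊕ Fin 2 ≃ Fin 4 where
  toFun := Sum.elim ![0, 2] ![1, 3]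
  invFun := ![Sum.inl 0, Sum.inr 0, Sum.inl 1, Sum.inr 1]
  left_inv := by rintro (i | i) <;> fin_cases i <;> rfl
  right_inv := by intro i; fin_cases i <;> rfl

/-- The data of a hyperbolic basis. -/
structure HypBasis (σ : F →+* F) where
  a : F
  c : F
  ha : a + σ a = 1
  hc' : c * σ c = -1

variable {σ : F →+* F}

theorem exists_hypBasis [Finite F] (hc : IsConjugation σ) : Nonempty (HypBasis σ) := by
  obtain ⟨a, ha⟩ := hc.exists_trace_eq (map_one σ)
  obtain ⟨c, hc'⟩ := hc.exists_norm_eq (show σ (-1) = -1 by simp)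
  exact ⟨⟨a, c, ha, hc'⟩⟩

/-- The basis matrix. -/
def tmM (h : HypBasis σ) : M4 F := fromBlocks 1 (h.a • 1) (h.c • 1) (-(σ h.a * h.c) • 1)

/-- Its inverse. -/
def tiM (h : HypBasis σ) : M4 F := hypM * ((tmM h).map σ)ᵀ

theorem gram {h : HypBasis σ} (hc : IsConjugation σ) : ((tmM h).map σ)ᵀ * tmM h = hypM := by
  have e1 := h.ha
  have e2 := h.hc'
  rw [tmM, fromBlocks_map, fromBlocks_transpose, fromBlocks_multiply, hypM]
  congr 1
  all_goals ext i j; fin_cases i <;> fin_cases j <;> simp [Matrix.mul_apply, hc.invol]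
  all_goals first
    | linear_combination e2
    | linear_combination e1 - σ h.a * e2
    | linear_combination e1 - h.a * e2
    | linear_combination (h.a * σ h.a) * e2

theorem hypM_sq : (hypM : M4 F) * hypM = 1 := by
  simp [hypM, fromBlocks_multiply, fromBlocks_one]

variable {q : ℕ} (hσ : ∀ x, σ x = x ^ q)
include hσ

theorem mem_SU_iff_matrix {n : ℕ} (A : Matrix.SpecialLinearGroup (Fin n) F) :
    A ∈ Cfsg.SU n F q ↔ (A.1.map σ)ᵀ * A.1 = 1 := by
  constructor
  · intro hA
    ext i j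
    have h := (mem_GU_iff hσ (g := SpecialLinearGroup.toGL A)).1 hA (Pi.single i 1) (Pi.single j 1)
    rw [stdHerm_single] at h
    simp only [stdHerm_apply, mulVec_single, MulOpposite.op_one, one_smul] at h
    rw [mul_apply, one_apply]
    simpa [Pi.single_apply] using h
  · intro h
    refine (mem_GU_iff hσ (g := SpecialLinearGroup.toGL A)).2 fun x y => ?_
    show stdHerm σ n (A.1 *ᵥ x) (A.1 *ᵥ y) = _
    have e : σ ∘ (A.1 *ᵥ x) = A.1.map σ *ᵥ (σ ∘ x) := funext fun i => RingHom.map_mulVec σ _ _ i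
    calc stdHerm σ n (A.1 *ᵥ x) (A.1 *ᵥ y) = (σ ∘ (A.1 *ᵥ x)) ⬝ᵥ (A.1 *ᵥ y) := by rw [stdHerm_apply]; rfl
      _ = (σ ∘ x) ⬝ᵥ (((A.1.map σ)ᵀ * A.1) *ᵥ y) := by
        rw [e, dotProduct_mulVec, ← mulVec_mulVec, dotProduct_mulVec (σ ∘ x), vecMul_transpose,
          dotProduct_mulVec]
      _ = stdHerm σ n x y := by rw [h, one_mulVec, stdHerm_apply]; rfl

variable (hc : IsConjugation σ) (h : HypBasis σ)
include hc

omit hσ in
theorem ti_tm : tiM h * tmM h = 1 := by rw [tiM, Matrix.mul_assoc, gram hc, hypM_sq]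

omit hσ in
theorem tm_ti : tmM h * tiM h = 1 := mul_eq_one_comm.1 (ti_tm hc h)

/-- The matrix in the hyperbolic basis. -/
def toH : Cfsg.SU 4 F q →* M4 F where
  toFun g := tiM h * (g.1.1.submatrix pairEquiv pairEquiv) * tmM h
  map_one' := by simp [submatrix_one_equiv, ti_tm hc h]
  map_mul' g g' := by
    show tiM h * ((g.1.1 * g'.1.1).submatrix pairEquiv pairEquiv) * tmM h = _
    rw [← submatrix_mul_equiv _ _ _ pairEquiv _]
    simp only [Matrix.mul_assoc]
    rw [← Matrix.mul_assoc (tmM h) (tiM h), tm_ti hc h, Matrix.one_mul]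

theorem toH_injective : Function.Injective (toH (q := q) hc h) := by
  intro g g' e
  have e' := congrArg (fun M => tmM h * M * tiM h) e
  simp only [toH, MonoidHom.coe_mk, OneHom.coe_mk, ← Matrix.mul_assoc, tm_ti hc h, Matrix.one_mul] at e'
  simp only [Matrix.mul_assoc, tm_ti hc h, Matrix.mul_one] at e'
  refine Subtype.ext (Subtype.ext ?_)
  ext i j
  simpa using congrFun (congrFun e' (pairEquiv.symm i)) (pairEquiv.symm j)

theorem toH_unit (g : Cfsg.SU 4 F q) : IsUnit4 σ (toH hc h g) := by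
  have hg := (mem_SU_iff_matrix hσ g.1).1 g.2
  have e : ((g.1.1.submatrix pairEquiv pairEquiv).map σ)ᵀ * g.1.1.submatrix pairEquiv pairEquiv = 1 := by
    rw [← submatrix_map, transpose_submatrix, submatrix_mul_equiv, hg, submatrix_one_equiv]
  have ej : ((tiM h).map σ)ᵀ * hypM * tiM h = 1 := by
    rw [← gram (h := h) hc,
      show ((tiM h).map σ)ᵀ * (((tmM h).map σ)ᵀ * tmM h) * tiM h =
        (((tmM h).map σ) * ((tiM h).map σ))ᵀ * (tmM h * tiM h) by
        rw [transpose_mul]; simp only [Matrix.mul_assoc], ← Matrix.map_mul, tm_ti hc h,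
      Matrix.map_one _ (map_zero σ) (map_one σ), transpose_one, Matrix.mul_one]
  refine ⟨?_, ?_⟩
  · show ((tiM h * _ * tmM h).map σ)ᵀ * hypM * (tiM h * _ * tmM h) = hypM
    rw [Matrix.map_mul, Matrix.map_mul, transpose_mul, transpose_mul]
    generalize g.1.1.submatrix pairEquiv pairEquiv = G at e ⊢
    calc _ = ((tmM h).map σ)ᵀ * ((G.map σ)ᵀ * (((tiM h).map σ)ᵀ * hypM * tiM h) * G) * tmM h := by
          simp only [Matrix.mul_assoc]
      _ = _ := by rw [ej, Matrix.mul_one, e, Matrix.mul_one, gram hc]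
  · show (tiM h * _ * tmM h).det = 1
    rw [det_mul, det_mul, det_submatrix_equiv_self, g.1.2, mul_one, ← det_mul, ti_tm hc h, det_one]

/-- A special isometry of the hyperbolic form, in the standard basis. -/
def fromH (g : M4 F) (hg : IsUnit4 σ g) : Cfsg.SU 4 F q :=
  ⟨⟨(tmM h * g * tiM h).submatrix pairEquiv.symm pairEquiv.symm, by
      rw [det_submatrix_equiv_self, det_mul, det_mul, hg.2, mul_one, ← det_mul, tm_ti hc h, det_one]⟩, by
    refine (mem_SU_iff_matrix hσ _).2 ?_
    show (((tmM h * g * tiM h).submatrix pairEquiv.symm pairEquiv.symm).map σ)ᵀ *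
      (tmM h * g * tiM h).submatrix pairEquiv.symm pairEquiv.symm = 1
    rw [← submatrix_map, transpose_submatrix, submatrix_mul_equiv]
    have : ((tmM h * g * tiM h).map σ)ᵀ * (tmM h * g * tiM h) = 1 := by
      rw [Matrix.map_mul, Matrix.map_mul, transpose_mul, transpose_mul,
        show ((tiM h).map σ)ᵀ * ((g.map σ)ᵀ * ((tmM h).map σ)ᵀ) * (tmM h * g * tiM h) =
          ((tiM h).map σ)ᵀ * ((g.map σ)ᵀ * (((tmM h).map σ)ᵀ * tmM h) * g) * tiM h by simp only [Matrix.mul_assoc],
        gram hc, hg.1, ← gram (h := h) hc,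
        show ((tiM h).map σ)ᵀ * (((tmM h).map σ)ᵀ * tmM h) * tiM h =
          (((tmM h).map σ) * ((tiM h).map σ))ᵀ * (tmM h * tiM h) by
          rw [transpose_mul]; simp only [Matrix.mul_assoc], ← Matrix.map_mul, tm_ti hc h,
        Matrix.map_one _ (map_zero σ) (map_one σ), transpose_one, Matrix.mul_one]
    rw [this, submatrix_one_equiv]⟩

theorem toH_fromH (g : M4 F) (hg : IsUnit4 σ g) : toH hc h (fromH hσ hc h g hg) = g := by
  show tiM h * ((tmM h * g * tiM h).submatrix _ _).submatrix pairEquiv pairEquiv * tmM h = g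
  rw [submatrix_submatrix, show (pairEquiv.symm ∘ pairEquiv : Fin 2 ⊕ Fin 2 → _) = id from
    funext pairEquiv.symm_apply_apply, submatrix_id_id]
  simp only [← Matrix.mul_assoc, ti_tm hc h, Matrix.one_mul]
  rw [Matrix.mul_assoc, ti_tm hc h, Matrix.mul_one]

omit hσ in
theorem l0M_unit {δ : F} (hδ : δ ≠ 0) (hδσ : σ δ = -δ) (z : SL (fixK σ)) : IsUnit4 σ (l0M σ δ z) := by
  have hd : ((z.1 0 0 : F) * (z.1 1 1 : F)) - (z.1 0 1 : F) * (z.1 1 0 : F) = 1 := by
    exact_mod_cast congrArg (fun k : fixK σ => (k : F)) (det2 z)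
  refine ⟨?_, ?_⟩
  · rw [l0M, fromBlocks_map, fromBlocks_transpose, hypM, fromBlocks_multiply, fromBlocks_multiply]
    congr 1
    all_goals ext i j; fin_cases i <;> fin_cases j <;>
      simp [Matrix.mul_apply, hδσ, fixK_spec] <;> field_simp <;>
      first
        | linear_combination hd
        | ring
  · have e : (l0M σ δ z).submatrix pairEquiv.symm pairEquiv.symm =
        !![(z.1 0 0 : F), δ * (z.1 0 1 : F), 0, 0; (z.1 1 0 : F) / δ, (z.1 1 1 : F), 0, 0; 0, 0, 1, 0;
          0, 0, 0, 1] := by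
      ext i j; fin_cases i <;> fin_cases j <;> simp [l0M, pairEquiv]
    rw [← det_submatrix_equiv_self pairEquiv.symm, e]
    simp [Matrix.det_succ_row_zero, Fin.sum_univ_succ, Fin.succAbove]
    field_simp
    linear_combination hd

omit hσ hc in
theorem levM_mul (A B : SL F) : levM σ (A * B) = levM σ A * levM σ B := by
  simp [levM, fromBlocks_multiply, map_mul]

omit hσ hc in
theorem l0M_mul {δ : F} (hδ : δ ≠ 0) (y z : SL (fixK σ)) : l0M σ δ (y * z) = l0M σ δ y * l0M σ δ z := by
  simp only [l0M, fromBlocks_multiply]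
  congr 1
  all_goals ext i j; fin_cases i <;> fin_cases j <;>
    simp [Matrix.mul_apply, mul_apply2] <;> field_simp <;> ring

/-- The Levi homomorphism. -/
def levH : SL F →* Cfsg.SU 4 F q :=
  MonoidHom.mk' (fun A => fromH hσ hc h (levM σ A) (levM_mem hc A)) fun A B => toH_injective hσ hc h (by
    rw [map_mul, toH_fromH, toH_fromH, toH_fromH, levM_mul])

theorem toH_levH (A : SL F) : toH hc h (levH hσ hc h A) = levM σ A := toH_fromH hσ hc h _ (levM_mem hc A)

/-- The rank one homomorphism. -/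
def rootH {δ : F} (hδ : δ ≠ 0) (hδσ : σ δ = -δ) : SL (fixK σ) →* Cfsg.SU 4 F q :=
  MonoidHom.mk' (fun z => fromH hσ hc h (l0M σ δ z) (l0M_unit hc hδ hδσ z)) fun y z => toH_injective hσ hc h (by
    rw [map_mul, toH_fromH, toH_fromH, toH_fromH, l0M_mul hδ])

theorem toH_rootH {δ : F} (hδ : δ ≠ 0) (hδσ : σ δ = -δ) (z : SL (fixK σ)) :
    toH hc h (rootH hσ hc h hδ hδσ z) = l0M σ δ z := toH_fromH hσ hc h _ (l0M_unit hc hδ hδσ z)

theorem toH_Lb {δ : F} (hδ : δ ≠ 0) (hδσ : σ δ = -δ) (z : SL (fixK σ)) :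
    toH hc h (Lb (levH hσ hc h) (rootH hσ hc h hδ hδσ) z) = l1M σ δ z := by
  rw [Lb, ← map_inv (levH hσ hc h), map_mul, map_mul, toH_levH, toH_levH, toH_rootH]
  simp only [levM, l0M, l1M, fromBlocks_multiply]
  congr 1
  all_goals ext i j; fin_cases i <;> fin_cases j <;>
    simp [theta_val, Matrix.mul_apply, jSL_coe, Matrix.SpecialLinearGroup.coe_inv, Matrix.adjugate_fin_two]

theorem toH_zz {δ : F} (hδ : δ ≠ 0) (hδσ : σ δ = -δ) (t : F) :
    toH hc h (zz (levH hσ hc h) (rootH hσ hc h hδ hδσ) δ t) = upB !![0, t; -σ t, 0] := by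
  rw [zz, ← Lb_inv, map_mul, map_mul, toH_levH, toH_Lb, toH_Lb]
  simp only [levM, l1M, upB, fromBlocks_multiply]
  congr 1
  all_goals ext i j; fin_cases i <;> fin_cases j <;>
    simp [theta_val, Matrix.mul_apply, jSL_coe, up_val, Matrix.SpecialLinearGroup.coe_inv, Matrix.adjugate_fin_two,
      hδσ] <;>
    field_simp

theorem target_base {δ : F} (hδ : δ ≠ 0) (hδσ : σ δ = -δ) (s : F) (k : fixK σ) :
    Base hc (levH hσ hc h) (rootH hσ hc h hδ hδσ) δ s k := by
  unfold Base
  rw [mul_inv_eq_iff_eq_mul]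
  apply toH_injective hσ hc h
  simp only [map_mul, toH_levH, toH_rootH, toH_Lb, toH_zz]
  simp only [levM, l0M, l1M, upB, fromBlocks_multiply]
  congr 1
  all_goals ext i j; fin_cases i <;> fin_cases j <;>
    simp [theta_val, Matrix.mul_apply, up_val, low_val, nK_val, hδσ, fixK_spec, hc.invol] <;> field_simp <;> ring

variable [Finite F]

/-- The relations hold. -/
theorem four_target {δ : F} (hδ : δ ≠ 0) (hδσ : σ δ = -δ) {w : F} (hw : w ≠ 0)
    (hgen : ∀ x : F, x ≠ 0 → ∃ e : ℕ, w ^ e = x) {b x : F} (hb : b ≠ 0) (hx : σ x ≠ x)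
    (h1 : IsSquare x ∨ IsSquare (x / b)) (h2 : IsSquare (1 + x) ∨ IsSquare ((1 + x) / b)) :
    Four hc (levH hσ hc h) (rootH hσ hc h hδ hδσ) w δ hw where
  gen := hgen
  hδ := hδ
  hδσ := hδσ
  comm y z := toH_injective hσ hc h (by
    simp only [map_mul, toH_rootH, toH_Lb]
    simp only [l0M, l1M, fromBlocks_multiply]
    congr 1
    all_goals ext i j; fin_cases i <;> fin_cases j <;> simp [Matrix.mul_apply])
  hL z := by
    have hσw : σ w ≠ 0 := (map_ne_zero σ).2 hw
    rw [mul_inv_eq_iff_eq_mul]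
    apply toH_injective hσ hc h
    simp only [map_mul, toH_levH, toH_rootH]
    simp only [levM, l0M, fromBlocks_multiply]
    congr 1
    all_goals ext i j; fin_cases i <;> fin_cases j <;>
      simp [theta_val, Matrix.mul_apply, scHom_val, dg_val, nK_val] <;> field_simp
  stab := toH_injective hσ hc h (by
    simp only [map_mul, toH_levH, toH_rootH]
    simp only [levM, l0M, fromBlocks_multiply]
    congr 1
    all_goals ext i j; fin_cases i <;> fin_cases j <;> simp [theta_val, Matrix.mul_apply, up_val])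
  torus := by
    have hσw : σ w ≠ 0 := (map_ne_zero σ).2 hw
    rw [eq_mul_inv_iff_mul_eq]
    apply toH_injective hσ hc h
    simp only [map_mul, toH_levH, toH_rootH, toH_Lb]
    simp only [levM, l0M, l1M, fromBlocks_multiply]
    congr 1
    all_goals ext i j; fin_cases i <;> fin_cases j <;>
      simp [theta_val, Matrix.mul_apply, dg_val, nK_val, hc.invol] <;> field_simp
  scale := by
    have hσw : σ w ≠ 0 := (map_ne_zero σ).2 hw
    rw [mul_inv_eq_iff_eq_mul]
    apply toH_injective hσ hc h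
    simp only [map_mul, toH_levH, toH_rootH]
    simp only [levM, l0M, fromBlocks_multiply]
    congr 1
    all_goals ext i j; fin_cases i <;> fin_cases j <;>
      simp [theta_val, Matrix.mul_apply, dg_val, up_val, nK_val, hc.invol] <;> field_simp
  twist := by
    rw [mul_inv_eq_iff_eq_mul]
    apply toH_injective hσ hc h
    simp only [Wd, map_mul, toH_levH, toH_rootH, toH_Lb]
    simp only [levM, l0M, l1M, fromBlocks_multiply]
    congr 1
    all_goals ext i j; fin_cases i <;> fin_cases j <;>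
      simp [theta_val, Matrix.mul_apply, up_val, low_val, jSL_coe]
  base := target_base hσ hc h hδ hδσ 1 1
  extra := ⟨b, x, hb, target_base hσ hc h hδ hδσ b 1, hx, h1, h2⟩

end CfsgLib.SUPres
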